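import Cfsg.Agent.OPlusEightTwo.Checks
import Cfsg.Agent.Forms4.POmegaOrders
import Mathlib.Algebra.Field.ZMod
import Cfsg.Prelude.Def_Classical

/-!
The cover and its map onto the orthogonal group of dimension eight over two elements.
-/

set_option autoImplicit false
set_option linter.style.haveILetI false

namespace CfsgLib.OPlusEightTwo

open CfsgLib.Schur.Pc (ev)
open CfsgLib.StdForms CfsgLib.Forms4
open scoped commutatorElement

/-- The coordinates. -/
abbrev I : Type := Fin 4 ⊕ Fin 4

/-- Numbering of the coordinates. -/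
abbrev ix : I ≃ Fin 8 := finSumFinEquiv

/-- The form. -/
abbrev Q : (I → ZMod 2) → ZMod 2 := Cfsg.quadFormPlus 4 (ZMod 2)

/-- The cover. -/
abbrev E : Type := sys.grp

/-- Its elements. -/
abbrev x (a : ℕ) : E := sys.x sys_ok a

theorem two_dvd_four : 2 ∣ 4 := ⟨2, rfl⟩

/-- Reduction of the first matrix modulo two. -/
def red : Amb →* Matrix I I (ZMod 2) where
  toFun X := fun c d => ZMod.castHom two_dvd_four (ZMod 2) (X.1 (ix c) (ix d))
  map_one' := by
    ext c d
    rw [Prod.fst_one, Matrix.one_apply, Matrix.one_apply]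
    by_cases h : c = d
    · simp [h]
    · rw [if_neg h, if_neg fun e => h (ix.injective e), map_zero]
  map_mul' X Y := by
    ext c d
    show _ = ∑ k : I, ZMod.castHom two_dvd_four (ZMod 2) (X.1 (ix c) (ix k)) *
      ZMod.castHom two_dvd_four (ZMod 2) (Y.1 (ix k) (ix d))
    rw [Prod.fst_mul, Matrix.mul_apply, map_sum]
    refine (Fintype.sum_equiv ix _ _ fun k => ?_).symm
    rw [map_mul]

/-- The linear representation of the cover over two elements. -/
def rep : E →* Matrix.GeneralLinearGroup I (ZMod 2) :=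
  (Units.map red).comp sys.grp.subtype

theorem rep_ev {u : List ℕ} (hu : sys.letters u = true) (c d : I) :
    ((rep (ev x u) : Matrix.GeneralLinearGroup I (ZMod 2)) : Matrix I I (ZMod 2)) c d =
      ((dig (sys.wcode u).1 (8 * (ix c).val + (ix d).val) : ℕ) : ZMod 2) := by
  show ZMod.castHom two_dvd_four (ZMod 2) ((((ev x u : E) : Ambˣ) : Amb).1 (ix c) (ix d)) = _
  rw [Sys.val_x sys_ok hu]
  exact map_natCast _ _

theorem len_eq : sys.n = 8 ∧ 8 ≤ sys.len := ⟨rfl, by decide +kernel⟩

theorem letters_single {a : ℕ} (h : a < sys.len) : sys.letters [a] = true := by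
  simp only [Sys.letters, List.all_cons, List.all_nil, Bool.and_true]
  exact Nat.ble_eq_true_of_le h

theorem mulC_one {a : ℕ} (ha : wf a = true) : mulC a oneC = a := by
  rw [← encM_toM (wf_mulC a oneC), toM_mulC ha wf_oneC, toM_oneC, mul_one, encM_toM ha]

theorem wcode_single (a : ℕ) : sys.wcode [a] = (sys.tab.get a).code := by
  have hv : wfP (sys.tab.get a).code = true := by
    have h := sys_ok
    simp only [Sys.OK, Bool.and_eq_true] at h
    have hv := Tab.all_get h.1.1 a
    simp only [Entry.valid, Bool.and_eq_true] at hv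
    exact hv.1.1.1
  simp only [wfP, Bool.and_eq_true] at hv
  rw [Sys.wcode, Sys.wcode]
  exact Prod.ext (mulC_one hv.1) (mulC_one hv.2)

theorem rep_x {a : ℕ} (ha : a < sys.len) (c d : I) :
    ((rep (x a) : Matrix.GeneralLinearGroup I (ZMod 2)) : Matrix I I (ZMod 2)) c d =
      ((par a (8 * (ix c).val + (ix d).val) : ℕ) : ZMod 2) := by
  have h := rep_ev (letters_single ha) c d
  rw [Schur.Pc.ev_cons, Schur.Pc.ev_nil, mul_one, wcode_single] at h
  rw [h, par, ZMod.natCast_mod]

/-- Digits of a vector. -/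
def vecOf (v : ℕ) : I → ZMod 2 := fun c => ((bitAt v (ix c).val : ℕ) : ZMod 2)

theorem exists_vecOf (w : I → ZMod 2) : ∃ v < 256, vecOf v = w := by
  let f : Fin 8 → Fin 2 := fun j => (w (ix.symm j) : Fin 2)
  refine ⟨(finFunctionFinEquiv f).val, (finFunctionFinEquiv f).isLt, funext fun c => ?_⟩
  have h := congrArg Fin.val (congrFun (finFunctionFinEquiv.symm_apply_apply f) (ix c))
  rw [finFunctionFinEquiv_symm_apply_val] at h
  rw [vecOf, bitAt, h]
  show (((w (ix.symm (ix c))).val : ℕ) : ZMod 2) = w c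
  rw [Equiv.symm_apply_apply, ZMod.natCast_zmod_val]

theorem qDigits_cast (g : ℕ → ℕ) :
    ((qDigits g : ℕ) : ZMod 2) = Q fun c => ((g (ix c).val : ℕ) : ZMod 2) := by
  rw [qDigits, ZMod.natCast_mod]
  simp [Q, Cfsg.quadFormPlus, Fin.sum_univ_four, ix]
  rfl

theorem rep_gen_preserves {a : ℕ} (ha : a < 8) :
    rep (x a) ∈ Cfsg.isometryGroup (ZMod 2) Q := by
  intro w _
  obtain ⟨v, hv, rfl⟩ := exists_vecOf w
  have h := iso_ok
  simp only [isoOK, List.all_eq_true, List.mem_range] at h
  have e := congrArg (fun n : ℕ => (n : ZMod 2)) (Nat.eq_of_beq_eq_true (h a ha v hv))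
  simp only [qDigits_cast] at e
  refine Eq.trans ?_ e
  show Q (((rep (x a) : Matrix.GeneralLinearGroup I (ZMod 2)) : Matrix I I (ZMod 2)).mulVec
    (vecOf v)) = _
  congr 1
  funext c
  have hsum : ∀ f : I → ZMod 2, ∑ d, f d = f (ix.symm 0) + f (ix.symm 1) + f (ix.symm 2) +
      f (ix.symm 3) + f (ix.symm 4) + f (ix.symm 5) + f (ix.symm 6) + f (ix.symm 7) := by
    intro f
    rw [← Equiv.sum_comp ix.symm, Fin.sum_univ_eight]
  rw [Matrix.mulVec, dotProduct, hsum]
  simp only [rep_x (ha.trans_le len_eq.2), vecOf, Equiv.apply_symm_apply, mvAt]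
  push_cast
  rfl

theorem closure_gens : Subgroup.closure {g : E | ∃ a, a < 8 ∧ x a = g} = ⊤ := Sys.closure_x sys_ok

/-- The map to the isometry group. -/
def repO : E →* Cfsg.isometryGroup (ZMod 2) Q :=
  rep.codRestrict _ fun g => by
    have hle : Subgroup.closure {g : E | ∃ a, a < 8 ∧ x a = g} ≤
        (Cfsg.isometryGroup (ZMod 2) Q).comap rep := by
      rw [Subgroup.closure_le]
      rintro _ ⟨a, ha, rfl⟩
      exact rep_gen_preserves ha
    rw [closure_gens] at hle
    exact hle (Subgroup.mem_top g)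

theorem involution {a : ℕ} (ha : a < 8) : x a * x a = 1 := by
  have h := comm_ok
  simp only [commOK, Bool.and_eq_true, List.all_eq_true, List.mem_range] at h
  have := Sys.weq_sound sys_ok (h.1.1 a ha)
  rwa [Schur.Pc.ev_cons, Schur.Pc.ev_cons, Schur.Pc.ev_nil, mul_one] at this

theorem cover_perfect : commutator E = ⊤ := by
  rw [eq_top_iff, ← closure_gens, Subgroup.closure_le]
  rintro _ ⟨a, ha, rfl⟩
  have h := comm_ok
  simp only [commOK, Bool.and_eq_true, List.all_eq_true, List.mem_range] at h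
  obtain ⟨⟨⟨hg, hh⟩, hk⟩, he⟩ := h.2 a ha
  have e := Sys.weq_sound sys_ok he
  simp only [Schur.Pc.ev_cons, Schur.Pc.ev_nil, mul_one] at e
  rw [SetLike.mem_coe, show x a = sys.x sys_ok a from rfl, e]
  generalize hg' : (commData.getD a (0, 0, 0)).1 = g at hg
  generalize hh' : (commData.getD a (0, 0, 0)).2.1 = h₀ at hh
  generalize hk' : (commData.getD a (0, 0, 0)).2.2 = k at hk
  have ig : (x g)⁻¹ = x g := inv_eq_of_mul_eq_one_right (involution (Nat.le_of_ble_eq_true hg))
  have ih : (x h₀)⁻¹ = x h₀ := inv_eq_of_mul_eq_one_right (involution (Nat.le_of_ble_eq_true hh))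
  have ik : (x k)⁻¹ = x k := inv_eq_of_mul_eq_one_right (involution (Nat.le_of_ble_eq_true hk))
  have : x g * (x h₀ * (x g * (x h₀ * (x k * (x h₀ * (x g * (x h₀ * (x g * x k)))))))) =
      ⁅⁅x g, x h₀⁆, x k⁆ := by
    simp only [commutatorElement_def, mul_inv_rev, ig, ih, ik, mul_assoc]
  rw [show sys.x sys_ok g = x g from rfl, show sys.x sys_ok h₀ = x h₀ from rfl,
    show sys.x sys_ok k = x k from rfl, this, commutator_def]
  exact Subgroup.commutator_mem_commutator (Subgroup.mem_top _) (Subgroup.mem_top _)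

/-- The map onto the commutator subgroup. -/
def repOmega : E →* Cfsg.Omega (ZMod 2) Q :=
  repO.codRestrict _ fun g => by
    have h : (commutator E).map repO ≤ commutator (Cfsg.isometryGroup (ZMod 2) Q) := by
      rw [commutator_def, Subgroup.map_commutator]
      exact Subgroup.commutator_mono le_top le_top
    rw [cover_perfect] at h
    exact h ⟨g, Subgroup.mem_top g, rfl⟩

theorem center_omega : Subgroup.center (Cfsg.Omega (ZMod 2) Q) = ⊥ := by
  have h := Subgroup.card_eq_one.1 (card_center_omega_one (plusQ_nondegenerate (F := ZMod 2) 4)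
    (by simp) (plusPairs 4 (by norm_num)) fun _ _ _ => by decide)
  rwa [coe_plusQ] at h

theorem card_pOmega : Nat.card (Cfsg.POmega (ZMod 2) Q) = 174182400 := by
  have h := card_pOmegaPlus (F := ZMod 2) (q := 2) (ZMod.card 2) 4 le_rfl
  simp [Finset.prod_range_succ] at h
  omega

theorem card_omega : Nat.card (Cfsg.Omega (ZMod 2) Q) = 174182400 := by
  rw [← Subgroup.card_mul_index (Subgroup.center (Cfsg.Omega (ZMod 2) Q)), center_omega,
    Subgroup.card_bot, one_mul]
  rw [← center_omega]
  exact card_pOmega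

/-- The map onto the simple group. -/
def toG : E →* Cfsg.POmega (ZMod 2) Q :=
  (QuotientGroup.mk' (Subgroup.center (Cfsg.Omega (ZMod 2) Q))).comp repOmega

end CfsgLib.OPlusEightTwo
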