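import Cfsg.Prelude.Def_Classical

/-!
Orthogonal groups over isomorphic fields.
-/

set_option autoImplicit false

namespace CfsgLib.OPlusEightTwo

variable {ι : Type} [Fintype ι] [DecidableEq ι] {K F : Type*} [Field K] [Field F]

theorem map_mem (e : K ≃+* F) {QK : (ι → K) → K} {QF : (ι → F) → F}
    (h : ∀ v : ι → K, QF (fun i => e (v i)) = e (QK v)) {g : Matrix.GeneralLinearGroup ι K}
    (hg : g ∈ Cfsg.isometryGroup K QK) :
    Units.map ((e : K →+* F).mapMatrix : Matrix ι ι K →+* Matrix ι ι F).toMonoidHom g ∈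
      Cfsg.isometryGroup F QF := by
  intro u v
  show QF ((((e : K →+* F).mapMatrix (g : Matrix ι ι K)) : Matrix ι ι F).mulVec u) = QF u
  have hu : u = fun i => e (e.symm (u i)) := funext fun i => (e.apply_symm_apply _).symm
  have hm : ((e : K →+* F).mapMatrix (g : Matrix ι ι K)).mulVec u =
      fun i => e ((g : Matrix ι ι K).mulVec (fun j => e.symm (u j)) i) := by
    conv_lhs => rw [hu]
    funext i
    simp [Matrix.mulVec, dotProduct, map_sum, map_mul]
  rw [hm, h]
  conv_rhs => rw [hu, h]
  exact congrArg e (hg (fun j => e.symm (u j)) (fun j => e.symm (u j)))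

/-- The isometry groups over isomorphic fields. -/
def isometryEquiv (e : K ≃+* F) {QK : (ι → K) → K} {QF : (ι → F) → F}
    (h : ∀ v : ι → K, QF (fun i => e (v i)) = e (QK v)) :
    Cfsg.isometryGroup K QK ≃* Cfsg.isometryGroup F QF where
  toFun g := ⟨_, map_mem e h g.2⟩
  invFun g := ⟨_, map_mem (QK := QF) (QF := QK) e.symm (fun v => by
    apply e.injective
    rw [← h, e.apply_symm_apply]
    congr 1
    funext i
    exact e.apply_symm_apply _) g.2⟩
  left_inv g := Subtype.ext (Units.ext (Matrix.ext fun i j => e.symm_apply_apply _))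
  right_inv g := Subtype.ext (Units.ext (Matrix.ext fun i j => e.apply_symm_apply _))
  map_mul' a b := Subtype.ext (map_mul _ _ _)

/-- The projective groups over isomorphic fields. -/
theorem pOmega_equiv (e : K ≃+* F) {QK : (ι → K) → K} {QF : (ι → F) → F}
    (h : ∀ v : ι → K, QF (fun i => e (v i)) = e (QK v)) :
    Nonempty (Cfsg.POmega K QK ≃* Cfsg.POmega F QF) := by
  let φ := isometryEquiv e h
  have h1 : (Cfsg.Omega K QK).map φ.toMonoidHom = Cfsg.Omega F QF := by
    show (commutator _).map φ.toMonoidHom = commutator _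
    rw [commutator_def, Subgroup.map_commutator,
      Subgroup.map_top_of_surjective _ φ.surjective, ← commutator_def]
  let ψ : Cfsg.Omega K QK ≃* Cfsg.Omega F QF :=
    (φ.subgroupMap (Cfsg.Omega K QK)).trans (MulEquiv.subgroupCongr h1)
  refine ⟨QuotientGroup.congr _ _ ψ ?_⟩
  ext z
  simp only [Subgroup.mem_map, Subgroup.mem_center_iff]
  constructor
  · rintro ⟨w, hw, rfl⟩ g
    obtain ⟨g', rfl⟩ := ψ.surjective g
    show ψ g' * ψ w = ψ w * ψ g'
    rw [← map_mul, ← map_mul, hw]
  · intro hz
    refine ⟨ψ.symm z, fun g => ψ.injective ?_, ψ.apply_symm_apply z⟩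
    rw [map_mul, map_mul, ψ.apply_symm_apply, hz]

theorem quadFormPlus_map (e : K ≃+* F) (m : ℕ) (v : Fin m ⊕ Fin m → K) :
    Cfsg.quadFormPlus m F (fun i => e (v i)) = e (Cfsg.quadFormPlus m K v) := by
  simp [Cfsg.quadFormPlus, map_sum, map_mul]

end CfsgLib.OPlusEightTwo
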