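import Cfsg.Agent.OPlusEightTwo.TowerData
import Cfsg.Agent.OPlusEightTwo.CertData

/-!
The checks on the tables of the cover.
-/

set_option autoImplicit false
set_option Elab.async false
set_option maxRecDepth 100000

namespace CfsgLib.OPlusEightTwo

open CfsgLib.Schur

/-- The numbers of the generators of the unipotent subgroup. -/
def pcAt (i : ℕ) : ℕ := pcNum.getD i oneNum

/-- The rules of the unipotent subgroup. -/
def rules2OK : Bool :=
  (List.range 14).all fun b => (List.range (b + 1)).all fun a =>
    sys.weq ([b, a].map pcAt) ((cert2.rule b a).map pcAt)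

/-- The conjugacies at two. -/
def fus2OK : Bool :=
  (List.range cert2.fus.length).all fun f => (List.range 16).all fun s =>
    sys.weq (fus2Num.getD f oneNum :: ((cert2.fus.getD f ([], [])).1.getD s []).map pcAt)
      (((cert2.fus.getD f ([], [])).2.getD s []).map pcAt ++ [fus2Num.getD f oneNum])

/-- A row of a coset table. -/
def rowOK (lower reps : List ℕ) (s : ℕ) (row : List (ℕ × List ℕ)) : Bool :=
  (List.range reps.length).all fun i =>
    Nat.blt (row.getD i (0, [])).1 reps.length &&
      (row.getD i (0, [])).2.all (fun a => lower.contains a) &&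
        sys.weq [s, reps.getD i oneNum] (reps.getD (row.getD i (0, [])).1 oneNum :: (row.getD i (0, [])).2)

/-- A coset table. -/
def levelOK (l : ℕ) (reps : List ℕ) (tab : List (List (ℕ × List ℕ))) : Bool :=
  sys.weq [reps.getD 0 oneNum] [] && Nat.blt 0 reps.length &&
    (List.range (parGens.getD l []).length).all fun k =>
      rowOK (parGens.getD (l - 1) []) reps ((parGens.getD l []).getD k oneNum) (tab.getD k [])

/-- The generators lie in the last subgroup. -/
def topOK : Bool := (List.range 8).all fun a => (parGens.getD 4 []).contains a

/-- Each generator is an involution and a double commutator. -/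
def commOK : Bool :=
  ((List.range 8).all fun a => sys.weq [a, a] []) &&
    Nat.beq commData.length 8 &&
    (List.range 8).all fun a =>
      let g := (commData.getD a (0, 0, 0)).1
      let h := (commData.getD a (0, 0, 0)).2.1
      let k := (commData.getD a (0, 0, 0)).2.2
      Nat.blt g 8 && Nat.blt h 8 && Nat.blt k 8 &&
        sys.weq [a] [g, h, g, h, k, h, g, h, g, k]

/-- Parity of a lane of the first matrix. -/
def par (a m : ℕ) : ℕ := dig (sys.tab.get a).code.1 m % 2

/-- An entry reduces to the identity. -/
def trivialMod (a : ℕ) : Bool :=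
  (List.range 64).all fun m => Nat.beq (par a m) (if m / 8 = m % 8 then 1 else 0)

/-- The central elements. -/
def centralOK : Bool :=
  (List.range 2).all (fun i => trivialMod (centralNum.getD i oneNum) &&
    sys.weq [centralNum.getD i oneNum, centralNum.getD i oneNum] [] &&
      (List.range 8).all fun a =>
        sys.weq [centralNum.getD i oneNum, a] [a, centralNum.getD i oneNum]) &&
  decide ([[], [centralNum.getD 0 oneNum], [centralNum.getD 1 oneNum],
    [centralNum.getD 0 oneNum, centralNum.getD 1 oneNum]].map sys.wcode).Nodup &&
  sys.letters centralNum && Nat.beq centralNum.length 2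

/-- The binary digit `j`. -/
def bitAt (v j : ℕ) : ℕ := v / 2 ^ j % 2

/-- An entry of the image of a vector. -/
def mvAt (a v i : ℕ) : ℕ :=
  par a (8 * i) * bitAt v 0 + par a (8 * i + 1) * bitAt v 1 + par a (8 * i + 2) * bitAt v 2 +
  par a (8 * i + 3) * bitAt v 3 + par a (8 * i + 4) * bitAt v 4 + par a (8 * i + 5) * bitAt v 5 +
  par a (8 * i + 6) * bitAt v 6 + par a (8 * i + 7) * bitAt v 7

/-- The form on digits. -/
def qDigits (c : ℕ → ℕ) : ℕ := (c 0 * c 4 + c 1 * c 5 + c 2 * c 6 + c 3 * c 7) % 2

/-- The generators preserve the form. -/
def isoOK : Bool :=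
  (List.range 8).all fun a => (List.range 256).all fun v =>
    Nat.beq (qDigits (mvAt a v)) (qDigits (bitAt v))

/-- A transversal element: it fixes the earlier columns and has the given one. -/
def repOK (pre : List ℕ) (b : ℕ) (p : ℕ × ℕ) : Bool :=
  Nat.blt p.2 sys.len &&
    (pre.all fun c => (List.range 8).all fun i =>
      Nat.beq (par p.2 (8 * i + c)) (if i = c then 1 else 0)) &&
    (List.range 8).all fun i => Nat.beq (par p.2 (8 * i + b)) (bitAt p.1 i)

/-- The transversals. -/
def chainOK : List ℕ → List (ℕ × List (ℕ × ℕ)) → Bool
  | _, [] => true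
  | pre, (b, O) :: rest =>
    Nat.blt b 8 && O.all (repOK pre b) && decide (O.map fun p => p.1 % 256).Nodup &&
      O.all (fun p => Nat.blt p.1 256) && chainOK (pre ++ [b]) rest

/-- The levels of the chain. -/
def chainLevels : List (ℕ × List (ℕ × ℕ)) :=
  [(0, orbit0), (4, orbit1), (1, orbit2), (5, orbit3), (2, orbit4), (6, orbit5)]

/-- Distinct numbers, with the ones seen so far in a mask. -/
def distinct : List ℕ → ℕ → Bool
  | [], _ => true
  | a :: l, acc => !Nat.testBit acc a && distinct l (Nat.lor acc (Nat.shiftLeft 1 a))

/-- The key of a word. -/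
def keyAt (md : ℕ) (u : List ℕ) : ℕ := ((sys.wcode u).1 + 3 * (sys.wcode u).2) % md

/-- The data at an odd prime. -/
def oddOK (C : Pc.Cert) (xi gs : List ℕ) (md : ℕ) : Bool :=
  C.check && C.rules.all (fun l => sys.weq (l.1.map fun i => xi.getD i oneNum)
      (l.2.map fun i => xi.getD i oneNum)) &&
    ((List.range C.fus.length).all fun f => (List.range C.fusW).all fun s =>
      sys.weq (gs.getD f oneNum :: ((C.fus.getD f ([], [])).1.getD s []).map fun i => xi.getD i oneNum)
        (((C.fus.getD f ([], [])).2.getD s []).map (fun i => xi.getD i oneNum) ++ [gs.getD f oneNum])) &&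
    ((Pc.normalWords C.p C.n 0).all fun w => sys.letters (w.map fun i => xi.getD i oneNum)) &&
    distinct ((Pc.normalWords C.p C.n 0).map fun w => keyAt md (w.map fun i => xi.getD i oneNum)) 0

/-- The element of order seven. -/
def sevenOK : Bool :=
  sys.weq (List.replicate 7 sevenNum) [] && !trivialMod sevenNum

theorem sys_ok : sys.OK = true := by decide +kernel

theorem rules2_ok : rules2OK = true := by decide +kernel

theorem fus2_ok : fus2OK = true := by decide +kernel

theorem level1_ok : levelOK 1 reps1 coset1 = true := by decide +kernel

theorem level2_ok : levelOK 2 reps2 coset2 = true := by decide +kernel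

theorem level3_ok : levelOK 3 reps3 coset3 = true := by decide +kernel

theorem level4_ok : levelOK 4 reps4 coset4 = true := by decide +kernel

theorem top_ok : topOK = true := by decide +kernel

theorem comm_ok : commOK = true := by decide +kernel

theorem central_ok : centralOK = true := by decide +kernel

theorem iso_ok : isoOK = true := by decide +kernel

theorem chain_ok : chainOK [] chainLevels = true := by decide +kernel

theorem cert2_eqs : cert2.eqsCheck = true := by decide +kernel

theorem cert2_lin : cert2.linCheck = true := by decide +kernel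

theorem odd3_ok : oddOK cert3 xi3 fus3Num mod3 = true := by decide +kernel

theorem odd5_ok : oddOK cert5 xi5 fus5Num mod5 = true := by decide +kernel

theorem seven_ok : sevenOK = true := by decide +kernel

theorem counts_ok : reps1.length = 3 ∧ reps2.length = 7 ∧ reps3.length = 15 ∧ reps4.length = 135 ∧
    (chainLevels.map fun l => l.2.length).prod = 174182400 := by decide +kernel

end CfsgLib.OPlusEightTwo
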