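import Mathlib.Data.Matrix.Mul
import Mathlib.Data.ZMod.Basic
import Mathlib.Algebra.BigOperators.Fin
import Mathlib.Tactic.Linarith
import Mathlib.Tactic.NormNum
import Mathlib.Tactic.Ring

/-!
Matrices of size eight over the integers mod four, packed into natural numbers with eight bits for
each entry, row after row.
-/

set_option autoImplicit false
set_option maxRecDepth 20000
set_option maxHeartbeats 1000000

namespace CfsgLib.OPlusEightTwo

/-- The lane number `m`. -/
def dig (x m : ℕ) : ℕ := Nat.land (Nat.shiftRight x (8 * m)) 255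

/-- The number with the lanes `f 0, …, f (n - 1)`. -/
def enc : ℕ → (ℕ → ℕ) → ℕ
  | 0, _ => 0
  | n + 1, f => f 0 + 256 * enc n fun m => f (m + 1)

theorem dig_eq (x m : ℕ) : dig x m = x / 256 ^ m % 256 := by
  rw [dig, show Nat.land (Nat.shiftRight x (8 * m)) 255 = (x >>> (8 * m)) &&& (2 ^ 8 - 1) from rfl,
    Nat.and_two_pow_sub_one_eq_mod, Nat.shiftRight_eq_div_pow, pow_mul]
  norm_num

theorem dig_succ (x m : ℕ) : dig x (m + 1) = dig (x / 256) m := by
  rw [dig_eq, dig_eq, Nat.div_div_eq_div_mul, pow_succ']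

theorem dig_enc : ∀ (n : ℕ) (f : ℕ → ℕ), (∀ m < n, f m < 256) → ∀ m,
    dig (enc n f) m = if m < n then f m else 0
  | 0, f, _, m => by simp [enc, dig_eq]
  | n + 1, f, h, m => by
    have h0 := h 0 (Nat.succ_pos n)
    cases m with
    | zero =>
      rw [dig_eq, enc, pow_zero, Nat.div_one, Nat.add_mul_mod_self_left, Nat.mod_eq_of_lt h0,
        if_pos (Nat.succ_pos n)]
    | succ m =>
      rw [dig_succ, enc, Nat.add_mul_div_left _ _ (by norm_num : 0 < 256), Nat.div_eq_of_lt h0,
        Nat.zero_add, dig_enc n _ (fun k hk => h (k + 1) (by omega)) m]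
      by_cases hm : m < n
      · rw [if_pos hm, if_pos (by omega)]
      · rw [if_neg hm, if_neg (by omega)]

theorem enc_dig : ∀ (n x : ℕ), x < 256 ^ n → enc n (dig x) = x
  | 0, x, h => by simp at h; simp [enc, h]
  | n + 1, x, h => by
    rw [enc, show (fun m => dig x (m + 1)) = dig (x / 256) from funext fun m => dig_succ x m,
      enc_dig n _ (Nat.div_lt_of_lt_mul (by rwa [← pow_succ'])), dig_eq, pow_zero, Nat.div_one,
      Nat.mod_add_div]

theorem enc_congr : ∀ (n : ℕ) {f g : ℕ → ℕ}, (∀ m < n, f m = g m) → enc n f = enc n g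
  | 0, _, _, _ => rfl
  | n + 1, f, g, h => by
    rw [enc, enc, h 0 (Nat.succ_pos n), enc_congr n fun m hm => h (m + 1) (by omega)]

theorem dig_land (x y m : ℕ) : dig (Nat.land x y) m = Nat.land (dig x m) (dig y m) := by
  apply Nat.eq_of_testBit_eq
  intro i
  show ((x &&& y) >>> (8 * m) &&& 255).testBit i =
    ((x >>> (8 * m) &&& 255) &&& (y >>> (8 * m) &&& 255)).testBit i
  simp only [Nat.testBit_and, Nat.testBit_shiftRight]
  cases x.testBit (8 * m + i) <;> cases y.testBit (8 * m + i) <;> cases (255 : ℕ).testBit i <;> rfl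

theorem dig_lt (x m : ℕ) : dig x m < 256 := by rw [dig_eq]; exact Nat.mod_lt _ (by norm_num)

theorem dig_shift (x k m : ℕ) : dig (Nat.shiftRight x (8 * k)) m = dig x (k + m) := by
  show (x >>> (8 * k)) >>> (8 * m) &&& 255 = x >>> (8 * (k + m)) &&& 255
  rw [← Nat.shiftRight_add, Nat.mul_add]

/-- The lanes with number divisible by eight. -/
def maskCol : ℕ := enc 64 fun m => if m % 8 = 0 then 255 else 0

/-- The first eight lanes. -/
def maskRow : ℕ := enc 8 fun _ => 255

/-- Reduction of every lane mod four. -/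
def maskMat : ℕ := enc 64 fun _ => 3

/-- The product before reduction, column `k` times row `k`. -/
def term (a b k : ℕ) : ℕ :=
  Nat.land (Nat.shiftRight a (8 * k)) 0xFF00000000000000FF00000000000000FF00000000000000FF00000000000000FF00000000000000FF00000000000000FF00000000000000FF *
    Nat.land (Nat.shiftRight b (8 * (8 * k))) 0xFFFFFFFFFFFFFFFF

/-- Product of two matrices. -/
def mulC (a b : ℕ) : ℕ :=
  Nat.land (term a b 0 + term a b 1 + term a b 2 + term a b 3 + term a b 4 + term a b 5 +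
      term a b 6 + term a b 7)
    0x03030303030303030303030303030303030303030303030303030303030303030303030303030303030303030303030303030303030303030303030303030303

theorem maskCol_eq : 0xFF00000000000000FF00000000000000FF00000000000000FF00000000000000FF00000000000000FF00000000000000FF00000000000000FF = maskCol := by
  decide +kernel

theorem maskRow_eq : 0xFFFFFFFFFFFFFFFF = maskRow := by decide +kernel

theorem maskMat_eq : 0x03030303030303030303030303030303030303030303030303030303030303030303030303030303030303030303030303030303030303030303030303030303 = maskMat := by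
  decide +kernel

theorem enc_lt : ∀ (n : ℕ) (f : ℕ → ℕ), (∀ m < n, f m < 256) → enc n f < 256 ^ n
  | 0, _, _ => by simp [enc]
  | n + 1, f, h => by
    have h0 := h 0 (Nat.succ_pos n)
    have h1 := enc_lt n (fun m => f (m + 1)) fun m hm => h (m + 1) (by omega)
    rw [enc, pow_succ']
    omega

theorem land_enc (x n : ℕ) (g : ℕ → ℕ) (hg : ∀ m < n, g m < 256) :
    Nat.land x (enc n g) = enc n fun m => Nat.land (dig x m) (g m) := by
  have hlt : Nat.land x (enc n g) < 256 ^ n :=
    lt_of_le_of_lt Nat.and_le_right (enc_lt n g hg)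
  rw [← enc_dig n _ hlt]
  refine enc_congr n fun m hm => ?_
  rw [dig_land, dig_enc n g hg, if_pos hm]

theorem enc_col (f : ℕ → ℕ) (h : ∀ m < 64, m % 8 ≠ 0 → f m = 0) :
    enc 64 f = f 0 + f 8 * 256 ^ 8 + f 16 * 256 ^ 16 + f 24 * 256 ^ 24 + f 32 * 256 ^ 32 +
      f 40 * 256 ^ 40 + f 48 * 256 ^ 48 + f 56 * 256 ^ 56 := by
  simp only [enc, Nat.reduceAdd]
  simp (config := { decide := true }) only [h, mul_zero, zero_add, add_zero]
  ring

theorem col_eq (a k : ℕ) :
    Nat.land (Nat.shiftRight a (8 * k)) maskCol =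
      dig a k + dig a (k + 8) * 256 ^ 8 + dig a (k + 16) * 256 ^ 16 + dig a (k + 24) * 256 ^ 24 +
      dig a (k + 32) * 256 ^ 32 + dig a (k + 40) * 256 ^ 40 + dig a (k + 48) * 256 ^ 48 +
      dig a (k + 56) * 256 ^ 56 := by
  have h255 : ∀ m, Nat.land (dig a m) 255 = dig a m := fun m => by
    show dig a m &&& (2 ^ 8 - 1) = dig a m
    rw [Nat.and_two_pow_sub_one_eq_mod, Nat.mod_eq_of_lt (dig_lt a m)]
  rw [maskCol, land_enc _ _ _ fun m _ => by split_ifs <;> norm_num,
    enc_col _ fun m _ hm => by rw [if_neg hm]; exact Nat.and_zero _]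
  simp only [Nat.reduceMod, if_true, h255, dig_shift, Nat.add_zero]

theorem row_eq (b k : ℕ) :
    Nat.land (Nat.shiftRight b (8 * (8 * k))) maskRow =
      dig b (8 * k) + dig b (8 * k + 1) * 256 + dig b (8 * k + 2) * 256 ^ 2 +
      dig b (8 * k + 3) * 256 ^ 3 + dig b (8 * k + 4) * 256 ^ 4 + dig b (8 * k + 5) * 256 ^ 5 +
      dig b (8 * k + 6) * 256 ^ 6 + dig b (8 * k + 7) * 256 ^ 7 := by
  have h255 : ∀ m, Nat.land (dig b m) 255 = dig b m := fun m => by
    show dig b m &&& (2 ^ 8 - 1) = dig b m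
    rw [Nat.and_two_pow_sub_one_eq_mod, Nat.mod_eq_of_lt (dig_lt b m)]
  rw [maskRow, land_enc _ _ _ fun m _ => by norm_num]
  simp only [enc, Nat.reduceAdd, h255, dig_shift, Nat.add_zero, mul_zero]
  ring

theorem term_eq (a b k : ℕ) : term a b k =
    Nat.land (Nat.shiftRight a (8 * k)) maskCol *
      Nat.land (Nat.shiftRight b (8 * (8 * k))) maskRow := by
  rw [term, maskCol_eq, maskRow_eq]

/-- The entries of the product, before reduction. -/
def rawEntry (a b m : ℕ) : ℕ :=
  dig a (8 * (m / 8)) * dig b (m % 8) + dig a (8 * (m / 8) + 1) * dig b (8 + m % 8) +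
  dig a (8 * (m / 8) + 2) * dig b (16 + m % 8) + dig a (8 * (m / 8) + 3) * dig b (24 + m % 8) +
  dig a (8 * (m / 8) + 4) * dig b (32 + m % 8) + dig a (8 * (m / 8) + 5) * dig b (40 + m % 8) +
  dig a (8 * (m / 8) + 6) * dig b (48 + m % 8) + dig a (8 * (m / 8) + 7) * dig b (56 + m % 8)

theorem terms_eq (a b : ℕ) :
    term a b 0 + term a b 1 + term a b 2 + term a b 3 + term a b 4 + term a b 5 + term a b 6 +
      term a b 7 = enc 64 (rawEntry a b) := by
  simp only [term_eq, col_eq, row_eq]
  simp only [enc, rawEntry, Nat.reduceAdd, Nat.reduceDiv, Nat.reduceMod, Nat.reduceMul]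
  ring

/-- The entries are reduced. -/
def wf (a : ℕ) : Bool :=
  Nat.beq (Nat.land a 0x03030303030303030303030303030303030303030303030303030303030303030303030303030303030303030303030303030303030303030303030303030303) a

theorem dig_le_of_wf {a : ℕ} (h : wf a = true) (m : ℕ) : dig a m ≤ 3 := by
  have h' := Nat.eq_of_beq_eq_true h
  rw [← h', maskMat_eq, dig_land, maskMat, dig_enc 64 _ fun _ _ => by norm_num]
  refine Nat.and_le_right.trans ?_
  split_ifs <;> norm_num

theorem rawEntry_lt {a b : ℕ} (ha : wf a = true) (hb : wf b = true) (m : ℕ) :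
    rawEntry a b m < 256 := by
  have h : ∀ i j, dig a i * dig b j ≤ 9 := fun i j =>
    Nat.mul_le_mul (dig_le_of_wf ha i) (dig_le_of_wf hb j)
  unfold rawEntry
  linarith [h (8 * (m / 8)) (m % 8), h (8 * (m / 8) + 1) (8 + m % 8),
    h (8 * (m / 8) + 2) (16 + m % 8), h (8 * (m / 8) + 3) (24 + m % 8),
    h (8 * (m / 8) + 4) (32 + m % 8), h (8 * (m / 8) + 5) (40 + m % 8),
    h (8 * (m / 8) + 6) (48 + m % 8), h (8 * (m / 8) + 7) (56 + m % 8)]

theorem wf_mulC (a b : ℕ) : wf (mulC a b) = true := by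
  unfold wf mulC
  rw [show ∀ x y : ℕ, Nat.land (Nat.land x y) y = Nat.land x y from fun x y => by
    show (x &&& y) &&& y = x &&& y
    rw [Nat.and_assoc, Nat.and_self]]
  exact Nat.beq_refl _

theorem dig_mulC {a b : ℕ} (ha : wf a = true) (hb : wf b = true) {m : ℕ} (hm : m < 64) :
    dig (mulC a b) m = rawEntry a b m % 4 := by
  rw [mulC, maskMat_eq, terms_eq, maskMat, dig_land,
    dig_enc 64 _ fun k _ => rawEntry_lt ha hb k, dig_enc 64 _ fun _ _ => by norm_num,
    if_pos hm, if_pos hm]
  exact Nat.and_two_pow_sub_one_eq_mod (n := 2) _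

/-- The identity. -/
def oneC : ℕ := enc 64 fun m => if m / 8 = m % 8 then 1 else 0

/-- The matrix of a code. -/
def toM (a : ℕ) : Matrix (Fin 8) (Fin 8) (ZMod 4) :=
  fun i j => ((dig a (8 * i.val + j.val) : ℕ) : ZMod 4)

theorem toM_mulC {a b : ℕ} (ha : wf a = true) (hb : wf b = true) :
    toM (mulC a b) = toM a * toM b := by
  ext i j
  have hm : 8 * i.val + j.val < 64 := by have := i.isLt; have := j.isLt; omega
  have h1 : (8 * i.val + j.val) / 8 = i.val := by omega
  have h2 : (8 * i.val + j.val) % 8 = j.val := by omega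
  rw [Matrix.mul_apply, Fin.sum_univ_eight]
  show ((dig (mulC a b) (8 * i.val + j.val) : ℕ) : ZMod 4) = _
  rw [dig_mulC ha hb hm, ZMod.natCast_mod, rawEntry, h1, h2]
  push_cast
  simp [toM, Nat.add_comm]

theorem wf_oneC : wf oneC = true := by decide +kernel

theorem toM_oneC : toM oneC = 1 := by
  ext i j
  have hi := i.isLt
  have hj := j.isLt
  show ((dig oneC (8 * i.val + j.val) : ℕ) : ZMod 4) = _
  rw [oneC, dig_enc 64 _ (fun m _ => by split_ifs <;> norm_num), if_pos (by omega),
    show (8 * i.val + j.val) / 8 = i.val by omega, show (8 * i.val + j.val) % 8 = j.val by omega,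
    Matrix.one_apply]
  by_cases h : i = j
  · simp [h]
  · rw [if_neg h, if_neg fun e => h (Fin.ext e)]
    simp

/-- The code of a matrix. -/
def encM (M : Matrix (Fin 8) (Fin 8) (ZMod 4)) : ℕ :=
  enc 64 fun m => (M ⟨m / 8 % 8, Nat.mod_lt _ (by norm_num)⟩ ⟨m % 8, Nat.mod_lt _ (by norm_num)⟩).val

theorem encM_toM {a : ℕ} (ha : wf a = true) : encM (toM a) = a := by
  have hlt : a < 256 ^ 64 := by
    rw [← Nat.eq_of_beq_eq_true ha, maskMat_eq]
    exact lt_of_le_of_lt Nat.and_le_right (enc_lt 64 _ fun _ _ => by norm_num)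
  conv_rhs => rw [← enc_dig 64 a hlt]
  refine enc_congr 64 fun m hm => ?_
  have e : 8 * (m / 8 % 8) + m % 8 = m := by omega
  show ZMod.val ((dig a (8 * (m / 8 % 8) + m % 8) : ℕ) : ZMod 4) = dig a m
  rw [e, ZMod.val_natCast, Nat.mod_eq_of_lt]
  have := dig_le_of_wf ha m
  omega

end CfsgLib.OPlusEightTwo
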