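import Cfsg.Agent.OPlusEightTwo.Cover
import Cfsg.Agent.Schur.PcClosure

/-!
The order of the cover is four times that of the orthogonal group, and the kernel is a four group.
-/

set_option autoImplicit false
set_option linter.style.haveILetI false
set_option maxRecDepth 20000

namespace CfsgLib.OPlusEightTwo

open CfsgLib.Schur.Pc (ev tailSubgroup)

/-- A subgroup of the chain of parabolic subgroups. -/
def K (l : ℕ) : Subgroup E := Subgroup.closure {g | ∃ a ∈ parGens.getD l [], x a = g}

/-- The generators of the unipotent subgroup. -/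
abbrev y (i : ℕ) : E := x (pcAt i)

theorem ev_map (f : ℕ → ℕ) (u : List ℕ) : ev x (u.map f) = ev (fun i => x (f i)) u := by
  simp [ev, List.map_map, Function.comp_def]

theorem rules_hold : ∀ a b, a ≤ b → b < 14 → y b * y a = ev y (cert2.rule b a) := by
  intro a b hab hb
  have h := rules2_ok
  simp only [rules2OK, List.all_eq_true, List.mem_range] at h
  have e := Sys.weq_sound sys_ok (h b hb a (by omega))
  rw [ev_map, ev_map, Schur.Pc.ev_cons, Schur.Pc.ev_cons, Schur.Pc.ev_nil, mul_one] at e
  exact e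

theorem card_K_zero : Nat.card (K 0) ≤ 2 ^ 14 := by
  have hshape : Schur.Pc.shaped 2 14 cert2.rules = true := by
    have h := cert2_lin
    simp only [Schur.Two.Cert.linCheck, Bool.and_eq_true] at h
    exact h.1.2
  have hlist : ∀ q ∈ cert2.rules, ev y q.1 = ev y q.2 := by
    intro q hq
    simp only [Schur.Two.Cert.rules, List.mem_flatMap, List.mem_map, List.mem_range] at hq
    obtain ⟨b, hb, a, ha, rfl⟩ := hq
    rw [← rules_hold a b (by omega) hb]
    simp [Schur.Pc.ev]
  have hle : K 0 ≤ tailSubgroup y 14 0 := by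
    rw [K, Subgroup.closure_le]
    rintro _ ⟨a, ha, rfl⟩
    have key : ∀ a ∈ parGens.getD 0 [], ∃ i : Fin 14, pcAt i.val = a := by decide +kernel
    obtain ⟨⟨i, hi'⟩, rfl⟩ := key a ha
    exact Schur.Pc.gen_mem_tailSubgroup y (Nat.zero_le i) hi'
  exact (Nat.card_le_card_of_injective (Subgroup.inclusion hle)
    (Subgroup.inclusion_injective hle)).trans
    (Schur.Pc.card_tailSubgroup_le y hshape hlist 14 0 rfl)

theorem ev_single (a : ℕ) : ev x [a] = x a := by
  rw [Schur.Pc.ev_cons, Schur.Pc.ev_nil, mul_one]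

theorem card_K_succ {l : ℕ} {reps : List ℕ} {tab : List (List (ℕ × List ℕ))}
    (hok : levelOK (l + 1) reps tab = true) :
    Nat.card (K (l + 1)) ≤ reps.length * Nat.card (K l) := by
  simp only [levelOK, Bool.and_eq_true, List.all_eq_true, List.mem_range, rowOK,
    Nat.add_sub_cancel] at hok
  obtain ⟨⟨h0, hpos⟩, htab⟩ := hok
  let f : Fin reps.length × K l → E := fun q => x (reps.getD q.1 oneNum) * (q.2 : E)
  have hstep : ∀ g ∈ K (l + 1), ∀ z ∈ Set.range f, g * z ∈ Set.range f := by
    intro g hg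
    induction hg using Subgroup.closure_induction with
    | mem w hw =>
      obtain ⟨a, ha, rfl⟩ := hw
      obtain ⟨k, hk, rfl⟩ := List.getElem_of_mem ha
      rintro _ ⟨⟨i, b⟩, rfl⟩
      obtain ⟨⟨hj, hmem⟩, he⟩ := htab k hk i i.2
      rw [List.getD_eq_getElem _ _ hk] at he
      generalize ((tab.getD k []).getD (i : ℕ) (0, [])) = q at hj hmem he
      have hq : ev x q.2 ∈ K l := Schur.Pc.ev_mem _ fun c hc =>
        Subgroup.subset_closure ⟨c, List.contains_iff_mem.1 (hmem c hc), rfl⟩
      refine ⟨(⟨q.1, Nat.le_of_ble_eq_true hj⟩, ⟨_, mul_mem hq b.2⟩), ?_⟩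
      have e := Sys.weq_sound sys_ok he
      simp only [Schur.Pc.ev_cons, Schur.Pc.ev_nil, mul_one] at e
      show x (reps.getD q.1 oneNum) * (ev x q.2 * (b : E)) = _ * (x (reps.getD i oneNum) * (b : E))
      rw [← mul_assoc, ← mul_assoc]
      exact congrArg (· * (b : E)) e.symm
    | one => intro z hz; rwa [one_mul]
    | mul a b _ _ ha hb => intro z hz; rw [mul_assoc]; exact ha _ (hb _ hz)
    | inv a _ ha =>
      intro z hz
      let φ : Set.range f → Set.range f := fun w => ⟨a * w, ha _ w.2⟩
      have hi : Function.Injective φ := fun u v e =>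
        Subtype.ext (mul_left_cancel (congrArg Subtype.val e))
      obtain ⟨w, hw⟩ := Finite.surjective_of_injective hi ⟨z, hz⟩
      have : a * (w : E) = z := congrArg Subtype.val hw
      rw [← this, inv_mul_cancel_left]
      exact w.2
  have hone : (1 : E) ∈ Set.range f := ⟨(⟨0, Nat.le_of_ble_eq_true hpos⟩, 1), by
    have e := Sys.weq_sound sys_ok h0
    rw [ev_single, Schur.Pc.ev_nil] at e
    show x (reps.getD 0 oneNum) * ((1 : K l) : E) = 1
    rw [e, one_mul]; rfl⟩
  let g : K (l + 1) → Set.range f := fun w => ⟨w.1, by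
    have := hstep w.1 w.2 1 hone
    rwa [mul_one] at this⟩
  have h1 := Nat.card_le_card_of_injective g fun u v e =>
    Subtype.ext (congrArg (fun z : Set.range f => (z : E)) e)
  have h2 := Nat.card_le_card_of_surjective (Set.rangeFactorization f) Set.rangeFactorization_surjective
  rw [Nat.card_prod, Nat.card_fin] at h2
  exact h1.trans h2

theorem K_top : K 4 = ⊤ := by
  rw [eq_top_iff, ← closure_gens, Subgroup.closure_le]
  rintro _ ⟨a, ha, rfl⟩
  have h := top_ok
  simp only [topOK, List.all_eq_true, List.mem_range] at h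
  exact Subgroup.subset_closure ⟨a, List.contains_iff_mem.1 (h a ha), rfl⟩

theorem card_cover_le : Nat.card E ≤ 696729600 := by
  have h1 := card_K_succ level1_ok
  have h2 := card_K_succ level2_ok
  have h3 := card_K_succ level3_ok
  have h4 := card_K_succ level4_ok
  have h0 := card_K_zero
  obtain ⟨c1, c2, c3, c4, -⟩ := counts_ok
  rw [c1] at h1
  rw [c2] at h2
  rw [c3] at h3
  rw [c4, K_top, Subgroup.card_top] at h4
  norm_num at h0 h1 h2 h3 h4 ⊢
  omega

/-- The fixing of some columns. -/
def Fixes (pre : List ℕ) (g : Matrix.GeneralLinearGroup I (ZMod 2)) : Prop :=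
  ∀ c ∈ pre, ∀ i : I, ∀ d : I, (ix d).val = c → (g : Matrix I I (ZMod 2)) i d = if i = d then 1 else 0

theorem natCast_two_inj {a b : ℕ} (ha : a < 2) (hb : b < 2)
    (h : (a : ZMod 2) = (b : ZMod 2)) : a = b := by
  have := congrArg ZMod.val h
  rwa [ZMod.val_natCast, ZMod.val_natCast, Nat.mod_eq_of_lt ha, Nat.mod_eq_of_lt hb] at this

theorem rep_of_ok {pre : List ℕ} {b : ℕ} {p : ℕ × ℕ} (h : repOK pre b p = true) :
    Fixes pre (rep (x p.2)) ∧ ∀ i d : I, (ix d).val = b →
      ((rep (x p.2) : Matrix.GeneralLinearGroup I (ZMod 2)) : Matrix I I (ZMod 2)) i d =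
        ((bitAt p.1 (ix i).val : ℕ) : ZMod 2) := by
  simp only [repOK, Bool.and_eq_true, List.all_eq_true, List.mem_range] at h
  have hlt : p.2 < sys.len := Nat.le_of_ble_eq_true h.1.1
  refine ⟨fun c hc i d hd => ?_, fun i d hd => ?_⟩
  · rw [rep_x hlt, hd, Nat.eq_of_beq_eq_true (h.1.2 c hc _ (ix i).isLt)]
    by_cases e : i = d
    · rw [if_pos e, if_pos (by rw [e, hd]), Nat.cast_one]
    · rw [if_neg e, if_neg fun e' => e (ix.injective (Fin.ext (e'.trans hd.symm))), Nat.cast_zero]
  · rw [rep_x hlt, hd, Nat.eq_of_beq_eq_true (h.2 _ (ix i).isLt)]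

theorem bitAt_ext {u v : ℕ} (hu : u < 256) (hv : v < 256)
    (h : ∀ j : Fin 8, bitAt u j.val = bitAt v j.val) : u = v := by
  have key : ∀ w : Fin 256, w.val = bitAt w.val 0 + 2 * bitAt w.val 1 + 4 * bitAt w.val 2 +
      8 * bitAt w.val 3 + 16 * bitAt w.val 4 + 32 * bitAt w.val 5 + 64 * bitAt w.val 6 +
      128 * bitAt w.val 7 := by decide +kernel
  have e1 : u = bitAt u 0 + 2 * bitAt u 1 + 4 * bitAt u 2 + 8 * bitAt u 3 +
      16 * bitAt u 4 + 32 * bitAt u 5 + 64 * bitAt u 6 + 128 * bitAt u 7 := key ⟨u, hu⟩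
  have e2 : v = bitAt v 0 + 2 * bitAt v 1 + 4 * bitAt v 2 + 8 * bitAt v 3 +
      16 * bitAt v 4 + 32 * bitAt v 5 + 64 * bitAt v 6 + 128 * bitAt v 7 := key ⟨v, hv⟩
  have k0 := h 0; have k1 := h 1; have k2 := h 2; have k3 := h 3
  have k4 := h 4; have k5 := h 5; have k6 := h 6; have k7 := h 7
  simp only [Fin.val_zero, Fin.val_one, Fin.val_two] at k0 k1 k2
  simp only [show ((3 : Fin 8) : ℕ) = 3 from rfl, show ((4 : Fin 8) : ℕ) = 4 from rfl,
    show ((5 : Fin 8) : ℕ) = 5 from rfl, show ((6 : Fin 8) : ℕ) = 6 from rfl,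
    show ((7 : Fin 8) : ℕ) = 7 from rfl] at k3 k4 k5 k6 k7
  omega

theorem chain_bound : ∀ (L : List (ℕ × List (ℕ × ℕ))) (pre : List ℕ), chainOK pre L = true →
    ∃ s : Finset (Matrix.GeneralLinearGroup I (ZMod 2)), (∀ g ∈ s, g ∈ rep.range ∧ Fixes pre g) ∧
      (L.map fun l => l.2.length).prod ≤ s.card
  | [], pre, _ => ⟨{1}, fun g hg => by
      rw [Finset.mem_singleton] at hg
      subst hg
      refine ⟨one_mem _, fun c _ i d _ => ?_⟩
      rw [Units.val_one, Matrix.one_apply], by simp⟩
  | (b, O) :: rest, pre, h => by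
    classical
    simp only [chainOK, Bool.and_eq_true, List.all_eq_true, decide_eq_true_eq] at h
    obtain ⟨⟨⟨⟨hb, hO⟩, hnd⟩, hlt⟩, hrest⟩ := h
    obtain ⟨s, hs, hcard⟩ := chain_bound rest (pre ++ [b]) hrest
    have hnd' : O.Nodup := List.Nodup.of_map _ hnd
    refine ⟨(O.toFinset ×ˢ s).image fun q => rep (x q.1.2) * q.2, ?_, ?_⟩
    · intro g hg
      obtain ⟨⟨p, t⟩, hq, rfl⟩ := Finset.mem_image.1 hg
      rw [Finset.mem_product, List.mem_toFinset] at hq
      obtain ⟨ht1, ht2⟩ := hs t hq.2
      refine ⟨mul_mem ⟨_, rfl⟩ ht1, fun c hc i d hd => ?_⟩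
      rw [Units.val_mul, Matrix.mul_apply, Finset.sum_eq_single d,
        ht2 c (List.mem_append_left _ hc) d d hd, if_pos rfl, mul_one]
      · exact (rep_of_ok (hO p hq.1)).1 c hc i d hd
      · intro e _ hed
        rw [ht2 c (List.mem_append_left _ hc) e d hd, if_neg hed, mul_zero]
      · intro hd'
        exact absurd (Finset.mem_univ d) hd'
    · rw [Finset.card_image_of_injOn, Finset.card_product, List.toFinset_card_of_nodup hnd',
        List.map_cons, List.prod_cons]
      · exact Nat.mul_le_mul_left _ hcard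
      rintro ⟨p, t⟩ hp ⟨p', t'⟩ hp' e
      simp only [Finset.coe_product, Set.mem_prod, Finset.mem_coe, List.mem_toFinset] at hp hp'
      have hb' : b < 8 := Nat.le_of_ble_eq_true hb
      let d : I := ix.symm ⟨b, hb'⟩
      have hd : (ix d).val = b := by simp [d]
      have col : ∀ (q : ℕ × ℕ) (u : Matrix.GeneralLinearGroup I (ZMod 2)), q ∈ O → u ∈ s → ∀ i : I,
          ((rep (x q.2) * u : Matrix.GeneralLinearGroup I (ZMod 2)) : Matrix I I (ZMod 2)) i d =
            ((bitAt q.1 (ix i).val : ℕ) : ZMod 2) := by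
        intro q u hq hu i
        rw [Units.val_mul, Matrix.mul_apply, Finset.sum_eq_single d,
          (hs u hu).2 b (List.mem_append_right _ List.mem_cons_self) d d hd, if_pos rfl, mul_one]
        · exact (rep_of_ok (hO q hq)).2 i d hd
        · intro e _ hed
          rw [(hs u hu).2 b (List.mem_append_right _ List.mem_cons_self) e d hd, if_neg hed, mul_zero]
        · intro hd'
          exact absurd (Finset.mem_univ d) hd'
      have hp1 : p.1 < 256 := Nat.le_of_ble_eq_true (hlt p hp.1)
      have hp1' : p'.1 < 256 := Nat.le_of_ble_eq_true (hlt p' hp'.1)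
      have hpq : p.1 = p'.1 := bitAt_ext hp1 hp1' fun j => by
        have h1 := col p t hp.1 hp.2 (ix.symm j)
        have h2 := col p' t' hp'.1 hp'.2 (ix.symm j)
        simp only at e
        rw [e, h2, Equiv.apply_symm_apply] at h1
        exact (natCast_two_inj (Nat.mod_lt _ Nat.two_pos) (Nat.mod_lt _ Nat.two_pos) h1).symm
      have hpp : p = p' := List.inj_on_of_nodup_map hnd hp.1 hp'.1 (by simp only [hpq])
      subst hpp
      exact Prod.ext rfl (mul_left_cancel e)

theorem card_range_rep : 174182400 ≤ Nat.card rep.range := by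
  obtain ⟨s, hs, hcard⟩ := chain_bound chainLevels [] chain_ok
  rw [counts_ok.2.2.2.2] at hcard
  refine hcard.trans ?_
  rw [← Nat.card_eq_finsetCard]
  exact Nat.card_le_card_of_injective (fun g => (⟨g.1, (hs g.1 g.2).1⟩ : rep.range))
    fun a b e => Subtype.ext (congrArg (fun z : rep.range => z.1) e)

theorem repOmega_coe (g : E) :
    (((repOmega g : Cfsg.Omega (ZMod 2) Q) : Cfsg.isometryGroup (ZMod 2) Q) :
      Matrix.GeneralLinearGroup I (ZMod 2)) = rep g := rfl

theorem repOmega_surjective : Function.Surjective repOmega := by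
  rw [← MonoidHom.range_eq_top]
  refine Subgroup.eq_top_of_le_card _ ?_
  rw [card_omega]
  refine card_range_rep.trans ?_
  refine Nat.card_le_card_of_surjective
    (fun w : repOmega.range => (⟨_, ⟨Classical.choose w.2, rfl⟩⟩ : rep.range)) ?_
  rintro ⟨_, g, rfl⟩
  refine ⟨⟨repOmega g, g, rfl⟩, Subtype.ext ?_⟩
  show rep (Classical.choose _) = rep g
  rw [← repOmega_coe, ← repOmega_coe,
    Classical.choose_spec (show ∃ a, repOmega a = repOmega g from ⟨g, rfl⟩)]

theorem toG_surjective : Function.Surjective toG :=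
  (QuotientGroup.mk'_surjective _).comp repOmega_surjective

/-- The numbers of the central elements. -/
abbrev zAt (i : ℕ) : ℕ := centralNum.getD i oneNum

theorem zAt_spec {i : ℕ} (hi : i < 2) :
    x (zAt i) ∈ toG.ker ∧ x (zAt i) ∈ Subgroup.center E ∧ x (zAt i) * x (zAt i) = 1 := by
  have h := central_ok
  simp only [centralOK, Bool.and_eq_true, List.all_eq_true, List.mem_range] at h
  obtain ⟨⟨⟨hc, -⟩, hl⟩, hlen⟩ := h
  obtain ⟨⟨htriv, hsq⟩, hcomm⟩ := hc i hi
  have hz : zAt i < sys.len := by
    have hl2 : i < centralNum.length := by rw [Nat.eq_of_beq_eq_true hlen]; exact hi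
    simp only [Sys.letters, List.all_eq_true] at hl
    rw [zAt, List.getD_eq_getElem _ _ hl2]
    exact Nat.le_of_ble_eq_true (hl _ (List.getElem_mem hl2))
  refine ⟨?_, ?_, ?_⟩
  · have h1 : rep (x (zAt i)) = 1 := by
      refine Units.ext ?_
      ext c d
      have hm : 8 * (ix c).val + (ix d).val < 64 := by
        have := (ix c).isLt; have := (ix d).isLt; omega
      simp only [trivialMod, List.all_eq_true, List.mem_range] at htriv
      rw [rep_x hz, Nat.eq_of_beq_eq_true (htriv _ hm),
        show (8 * (ix c).val + (ix d).val) / 8 = (ix c).val by have := (ix d).isLt; omega,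
        show (8 * (ix c).val + (ix d).val) % 8 = (ix d).val by have := (ix d).isLt; omega,
        Units.val_one, Matrix.one_apply]
      by_cases e : c = d
      · rw [if_pos e, if_pos (by rw [e]), Nat.cast_one]
      · rw [if_neg e, if_neg fun e' => e (ix.injective (Fin.ext e')), Nat.cast_zero]
    rw [MonoidHom.mem_ker, toG, MonoidHom.comp_apply,
      show repOmega (x (zAt i)) = 1 from Subtype.ext (Subtype.ext ((repOmega_coe _).trans h1)),
      map_one]
  · have key : Subgroup.closure {g : E | ∃ a, a < 8 ∧ x a = g} ≤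
        Subgroup.centralizer {x (zAt i)} := by
      rw [Subgroup.closure_le]
      rintro _ ⟨a, ha, rfl⟩
      rw [SetLike.mem_coe, Subgroup.mem_centralizer_iff]
      intro m hm
      rw [Set.mem_singleton_iff] at hm
      subst hm
      simpa [Schur.Pc.ev] using Sys.weq_sound sys_ok (hcomm a ha)
    rw [closure_gens] at key
    rw [Subgroup.mem_center_iff]
    intro g
    exact (Subgroup.mem_centralizer_iff.1 (key (Subgroup.mem_top g)) _ rfl).symm
  · simpa [Schur.Pc.ev] using Sys.weq_sound sys_ok hsq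

theorem four_nodup : (([[], [zAt 0], [zAt 1], [zAt 0, zAt 1]] : List (List ℕ)).map (ev x)).Nodup := by
  have h := central_ok
  simp only [centralOK, Bool.and_eq_true, decide_eq_true_eq] at h
  obtain ⟨⟨⟨-, hnd⟩, hl⟩, hlen⟩ := h
  simp only [Sys.letters, List.all_eq_true] at hl
  have hz : ∀ i < 2, Nat.blt (zAt i) sys.len = true := by
    intro i hi
    have hl2 : i < centralNum.length := by rw [Nat.eq_of_beq_eq_true hlen]; exact hi
    rw [zAt, List.getD_eq_getElem _ _ hl2]
    exact hl _ (List.getElem_mem hl2)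
  refine List.Nodup.of_map (fun g : E => (encM ((g : Ambˣ) : Amb).1, encM ((g : Ambˣ) : Amb).2)) ?_
  rw [List.map_map]
  have e : ∀ w ∈ ([[], [zAt 0], [zAt 1], [zAt 0, zAt 1]] : List (List ℕ)),
      ((fun g : E => (encM ((g : Ambˣ) : Amb).1, encM ((g : Ambˣ) : Amb).2)) ∘ ev x) w =
        sys.wcode w := by
    intro w hw
    have hlet : sys.letters w = true := by
      simp only [Sys.letters, List.all_eq_true]
      simp only [List.mem_cons, List.not_mem_nil, or_false] at hw
      rcases hw with rfl | rfl | rfl | rfl <;> intro a ha <;>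
        simp only [List.mem_cons, List.not_mem_nil, or_false] at ha
      · exact ha ▸ hz 0 (by norm_num)
      · exact ha ▸ hz 1 (by norm_num)
      · rcases ha with rfl | rfl
        · exact hz 0 (by norm_num)
        · exact hz 1 (by norm_num)
    have hw' := (Sys.val_ev sys_ok w).1
    simp only [wfP, Bool.and_eq_true] at hw'
    simp only [Function.comp_apply, Sys.val_x sys_ok hlet, toP]
    rw [encM_toM hw'.1, encM_toM hw'.2]
  rw [List.map_congr_left e]
  exact hnd

theorem card_all : Nat.card E = 696729600 ∧ Nat.card toG.ker = 4 := by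
  classical
  have h4 : 4 ≤ Nat.card toG.ker := by
    have hnd := four_nodup
    have hsub : ∀ g ∈ ((([[], [zAt 0], [zAt 1], [zAt 0, zAt 1]] : List (List ℕ)).map (ev x)).toFinset),
        g ∈ toG.ker := by
      intro g hg
      simp only [List.mem_toFinset, List.mem_map, List.mem_cons, List.not_mem_nil, or_false] at hg
      obtain ⟨w, hw, rfl⟩ := hg
      refine Schur.Pc.ev_mem _ fun a ha => ?_
      have h2 : a = zAt 0 ∨ a = zAt 1 := by
        rcases hw with rfl | rfl | rfl | rfl <;>
          simp only [List.mem_cons, List.not_mem_nil, or_false] at ha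
        exacts [Or.inl ha, Or.inr ha, ha]
      rcases h2 with rfl | rfl
      · exact (zAt_spec (by norm_num)).1
      · exact (zAt_spec (by norm_num)).1
    have := Nat.card_le_card_of_injective
      (fun g : ((([[], [zAt 0], [zAt 1], [zAt 0, zAt 1]] : List (List ℕ)).map (ev x)).toFinset) =>
        (⟨g, hsub g g.2⟩ : toG.ker))
      (fun a b e => Subtype.ext (by simpa using e))
    rw [Nat.card_eq_finsetCard, List.toFinset_card_of_nodup hnd] at this
    simpa using this
  have hmul := Subgroup.card_mul_index toG.ker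
  rw [Subgroup.index_ker, MonoidHom.range_eq_top.2 toG_surjective, Subgroup.card_top,
    card_pOmega] at hmul
  have := card_cover_le
  omega

/-- The kernel is a four group. -/
theorem exists_ker_equiv : Nonempty (toG.ker ≃* Multiplicative (ZMod 2 × ZMod 2)) := by
  classical
  obtain ⟨k0, c0, q0⟩ := zAt_spec (i := 0) (by norm_num)
  obtain ⟨k1, c1, q1⟩ := zAt_spec (i := 1) (by norm_num)
  have hadd : ∀ (g : E), g ^ 2 = 1 → ∀ a b : ZMod 2,
      g ^ (a + b).val = g ^ a.val * g ^ b.val := by
    intro g hg a b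
    rw [← pow_add, ZMod.val_add]
    exact (pow_eq_pow_mod (a.val + b.val) hg).symm
  have s0 : x (zAt 0) ^ 2 = 1 := by rw [pow_two]; exact q0
  have s1 : x (zAt 1) ^ 2 = 1 := by rw [pow_two]; exact q1
  have hc : ∀ g, Commute (x (zAt 0)) g := fun g => (Subgroup.mem_center_iff.1 c0 g).symm
  let φ : Multiplicative (ZMod 2 × ZMod 2) →* toG.ker :=
    { toFun := fun v => ⟨x (zAt 0) ^ (Multiplicative.toAdd v).1.val *
          x (zAt 1) ^ (Multiplicative.toAdd v).2.val,
        mul_mem (Subgroup.pow_mem _ k0 _) (Subgroup.pow_mem _ k1 _)⟩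
      map_one' := Subtype.ext (by simp)
      map_mul' := fun v w => Subtype.ext (by
        simp only [toAdd_mul, Prod.fst_add, Prod.snd_add, Subgroup.coe_mul,
          hadd _ s0, hadd _ s1]
        exact Commute.mul_mul_mul_comm ((hc _).pow_left _) _ _) }
  have hnd := four_nodup
  simp only [List.map_cons, List.map_nil, List.nodup_cons, List.mem_cons, List.not_mem_nil,
    or_false, not_or, Schur.Pc.ev_cons, Schur.Pc.ev_nil, mul_one] at hnd
  obtain ⟨⟨n1, n2, n3⟩, ⟨n4, n5⟩, n6, -⟩ := hnd
  have hinj : Function.Injective φ := by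
    rw [injective_iff_map_eq_one]
    intro v hv
    have hv' : x (zAt 0) ^ (Multiplicative.toAdd v).1.val *
        x (zAt 1) ^ (Multiplicative.toAdd v).2.val = 1 := congrArg Subtype.val hv
    obtain ⟨⟨a, b⟩, rfl⟩ := Multiplicative.ofAdd.surjective v
    simp only [toAdd_ofAdd] at hv'
    fin_cases a <;> fin_cases b
    · rfl
    · exact absurd (by simpa [ZMod.val] using hv'.symm) n2
    · exact absurd (by simpa [ZMod.val] using hv'.symm) n1
    · exact absurd (by simpa [ZMod.val] using hv'.symm) n3
  have hb : Function.Bijective φ := by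
    refine (Nat.bijective_iff_injective_and_card φ).2 ⟨hinj, ?_⟩
    rw [card_all.2, Nat.card_congr Multiplicative.toAdd, Nat.card_prod, Nat.card_zmod]
  exact ⟨(MulEquiv.ofBijective φ hb).symm⟩

theorem ker_le_center : toG.ker ≤ Subgroup.center E := by
  intro g hg
  have hsub : toG.ker ≤ Subgroup.closure {x (zAt 0), x (zAt 1)} := by
    have hle : Subgroup.closure {x (zAt 0), x (zAt 1)} ≤ toG.ker := by
      rw [Subgroup.closure_le]
      rintro _ (rfl | rfl)
      · exact (zAt_spec (by norm_num)).1
      · exact (zAt_spec (by norm_num)).1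
    refine (Subgroup.eq_of_le_of_card_ge hle ?_).ge
    rw [card_all.2]
    classical
    have hnd := four_nodup
    have hmem : ∀ w ∈ ((([[], [zAt 0], [zAt 1], [zAt 0, zAt 1]] : List (List ℕ)).map (ev x)).toFinset),
        w ∈ Subgroup.closure {x (zAt 0), x (zAt 1)} := by
      intro w hw
      simp only [List.mem_toFinset, List.mem_map, List.mem_cons, List.not_mem_nil, or_false] at hw
      obtain ⟨u, hu, rfl⟩ := hw
      refine Schur.Pc.ev_mem _ fun a ha => Subgroup.subset_closure ?_
      rcases hu with rfl | rfl | rfl | rfl <;>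
        simp only [List.mem_cons, List.not_mem_nil, or_false] at ha
      · exact Or.inl (ha ▸ rfl)
      · exact Or.inr (ha ▸ rfl)
      · rcases ha with rfl | rfl
        · exact Or.inl rfl
        · exact Or.inr rfl
    have := Nat.card_le_card_of_injective
      (fun g : ((([[], [zAt 0], [zAt 1], [zAt 0, zAt 1]] : List (List ℕ)).map (ev x)).toFinset) =>
        (⟨g, hmem g g.2⟩ : Subgroup.closure {x (zAt 0), x (zAt 1)}))
      (fun u v e => Subtype.ext (by simpa using e))
    rw [Nat.card_eq_finsetCard, List.toFinset_card_of_nodup hnd] at this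
    simpa using this
  refine (hsub.trans ?_) hg
  rw [Subgroup.closure_le]
  rintro _ (rfl | rfl)
  · exact (zAt_spec (by norm_num)).2.1
  · exact (zAt_spec (by norm_num)).2.1

end CfsgLib.OPlusEightTwo
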