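import Cfsg.Agent.OPlusEightTwo.Count
import Cfsg.Agent.Schur.Basic
import Cfsg.Agent.Schur.CoverBound

/-!
The Schur multiplier of the orthogonal group of dimension eight of plus type over two elements is a
four group.
-/

set_option autoImplicit false
set_option linter.style.haveILetI false
set_option maxRecDepth 20000

namespace CfsgLib.OPlusEightTwo

open CfsgLib.Schur.Pc (ev tailSubgroup)

theorem card_unipotent : 2 ^ 14 ≤ Nat.card (tailSubgroup y 14 0) := by
  have h1 := card_K_succ level1_ok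
  have h2 := card_K_succ level2_ok
  have h3 := card_K_succ level3_ok
  have h4 := card_K_succ level4_ok
  obtain ⟨c1, c2, c3, c4, -⟩ := counts_ok
  rw [c1] at h1
  rw [c2] at h2
  rw [c3] at h3
  rw [c4, K_top, Subgroup.card_top, card_all.1] at h4
  have hle : K 0 ≤ tailSubgroup y 14 0 := by
    rw [K, Subgroup.closure_le]
    rintro _ ⟨a, ha, rfl⟩
    have key : ∀ a ∈ parGens.getD 0 [], ∃ i : Fin 14, pcAt i.val = a := by decide +kernel
    obtain ⟨⟨i, hi'⟩, rfl⟩ := key a ha
    exact Schur.Pc.gen_mem_tailSubgroup y (Nat.zero_le i) hi'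
  have := Nat.card_le_card_of_injective (Subgroup.inclusion hle) (Subgroup.inclusion_injective hle)
  norm_num at h1 h2 h3 h4 ⊢
  omega

universe u

theorem two_part {Δ : Type} [Group Δ] [Finite Δ] (σ : Δ →* E)
    (hσ : Cfsg.IsStemExtension σ) (hexp : ∀ z ∈ σ.ker, z ^ 2 = 1) : σ.ker = ⊥ := by
  refine Schur.Two.Cert.ker_eq_bot cert2 σ hσ hexp cert2_eqs cert2_lin y ?_ ?_ card_unipotent ?_
  · intro a b hab hb
    exact rules_hold a b hab hb
  · intro F hF
    obtain ⟨f, hf, rfl⟩ := List.getElem_of_mem hF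
    refine ⟨x (fus2Num.getD f oneNum), fun s hs => ?_⟩
    have h := fus2_ok
    simp only [fus2OK, List.all_eq_true, List.mem_range] at h
    have e := Sys.weq_sound sys_ok (h f hf s hs)
    rw [List.getD_eq_getElem _ _ hf, Schur.Pc.ev_cons, Schur.Pc.ev_append, ev_map, ev_map,
      ev_single] at e
    rw [mul_inv_eq_iff_eq_mul]
    exact e
  · intro hd
    have hle : Nat.card (tailSubgroup y 14 0) ≤ 2 ^ 14 := by
      have hlin := cert2_lin
      simp only [Schur.Two.Cert.linCheck, Bool.and_eq_true] at hlin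
      refine Schur.Pc.card_tailSubgroup_le y (rs := cert2.rules) hlin.1.2 ?_ 14 0 rfl
      intro q hq
      simp only [Schur.Two.Cert.rules, List.mem_flatMap, List.mem_map, List.mem_range] at hq
      obtain ⟨b, hb, a, ha, rfl⟩ := hq
      rw [← rules_hold a b (by omega) hb]
      simp [Schur.Pc.ev]
    have h := Subgroup.index_mul_card (tailSubgroup y 14 0)
    rw [le_antisymm hle card_unipotent, card_all.1] at h
    have hd' : 2 ∣ (tailSubgroup y 14 0).index := hd
    norm_num at h
    omega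

theorem distinct_sound : ∀ (l : List ℕ) (acc : ℕ), distinct l acc = true →
    l.Nodup ∧ ∀ a ∈ l, acc.testBit a = false
  | [], _, _ => by simp
  | a :: l, acc, h => by
    simp only [distinct, Bool.and_eq_true, Bool.not_eq_true'] at h
    obtain ⟨h1, h2⟩ := distinct_sound l _ h.2
    have h3 : ∀ b ∈ l, acc.testBit b = false ∧ b ≠ a := by
      intro b hb
      have h4 := h2 b hb
      rw [show Nat.lor acc (Nat.shiftLeft 1 a) = acc ||| 1 <<< a from rfl, Nat.testBit_or,
        Bool.or_eq_false_iff, Nat.shiftLeft_eq, Nat.one_mul] at h4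
      refine ⟨h4.1, fun e => ?_⟩
      rw [e, Nat.testBit_two_pow_self] at h4
      simp at h4
    refine ⟨List.nodup_cons.2 ⟨fun ha => (h3 a ha).2 rfl, h1⟩, ?_⟩
    intro b hb
    rcases List.mem_cons.1 hb with rfl | hb
    exacts [h.1, (h3 b hb).1]

theorem odd_part (C : Schur.Pc.Cert) (xi gs : List ℕ) (md : ℕ) (hok : oddOK C xi gs md = true)
    (hp : C.p.Prime) {m : ℕ} (hm : 696729600 = C.p ^ C.n * m) (hmp : ¬ C.p ∣ m)
    {Δ : Type} [Group Δ] [Finite Δ] (σ : Δ →* E) (hσ : Cfsg.IsStemExtension σ)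
    (hexp : ∀ z ∈ σ.ker, z ^ C.p = 1) : σ.ker = ⊥ := by
  simp only [oddOK, Bool.and_eq_true, List.all_eq_true, List.mem_range] at hok
  obtain ⟨⟨⟨⟨hcheck, hrules⟩, hfus⟩, hlet⟩, hdist⟩ := hok
  let w : ℕ → E := fun i => x (xi.getD i oneNum)
  have hr : ∀ q ∈ C.rules, ev w q.1 = ev w q.2 := fun q hq => by
    have e := Sys.weq_sound sys_ok (hrules q hq)
    rwa [ev_map, ev_map] at e
  have hcard : C.p ^ C.n ≤ Nat.card (tailSubgroup w C.n 0) := by
    refine Schur.Pc.le_card_of_nodup
      (fun g : E => (encM ((g : Ambˣ) : Amb).1 + 3 * encM ((g : Ambˣ) : Amb).2) % md) C.p C.n w ?_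
    refine (congrArg List.Nodup (List.map_congr_left fun u hu => ?_)).mpr (distinct_sound _ _ hdist).1
    show _ = keyAt md (u.map fun i => xi.getD i oneNum)
    rw [show ev w u = ev x (u.map fun i => xi.getD i oneNum) from (ev_map _ u).symm,
      Sys.val_x sys_ok (hlet u hu)]
    have hw := (Sys.val_ev sys_ok (u.map fun i => xi.getD i oneNum)).1
    simp only [wfP, Bool.and_eq_true] at hw
    simp only [toP, keyAt]
    rw [encM_toM hw.1, encM_toM hw.2]
  refine C.ker_eq_bot σ hσ hp hexp hcheck w hr ?_ hcard ?_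
  · intro F hF
    obtain ⟨f, hf, rfl⟩ := List.getElem_of_mem hF
    refine ⟨x (gs.getD f oneNum), fun s hs => ?_⟩
    have e := Sys.weq_sound sys_ok (hfus f hf s hs)
    rw [List.getD_eq_getElem _ _ hf, Schur.Pc.ev_cons, Schur.Pc.ev_append, ev_map, ev_map,
      ev_single] at e
    rw [mul_inv_eq_iff_eq_mul]
    exact e
  · have hshape : Schur.Pc.shaped C.p C.n C.rules = true := by
      simp only [Schur.Pc.Cert.check, Bool.and_eq_true] at hcheck
      exact hcheck.1.1
    have hS : Nat.card (tailSubgroup w C.n 0) = C.p ^ C.n :=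
      le_antisymm (Schur.Pc.card_tailSubgroup_le w hshape hr C.n 0 (Nat.zero_add _)) hcard
    have h := Subgroup.index_mul_card (tailSubgroup w C.n 0)
    rw [hS, card_all.1, hm, Nat.mul_comm] at h
    rwa [Nat.eq_of_mul_eq_mul_left (pow_pos hp.pos _) h]

theorem seven_part {Δ : Type} [Group Δ] [Finite Δ] (σ : Δ →* E) (hσ : Cfsg.IsStemExtension σ)
    (hexp : ∀ z ∈ σ.ker, z ^ 7 = 1) : σ.ker = ⊥ := by
  haveI : Fact (Nat.Prime 7) := ⟨by norm_num⟩
  have h := seven_ok
  simp only [sevenOK, Bool.and_eq_true, Bool.not_eq_true'] at h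
  obtain ⟨hs, hne⟩ := h
  have hpow : x sevenNum ^ 7 = 1 := by
    have e := Sys.weq_sound sys_ok hs
    rwa [Schur.Pc.ev_replicate, Schur.Pc.ev_nil] at e
  have hlt : sevenNum < sys.len := by decide +kernel
  have h1 : x sevenNum ≠ 1 := by
    intro e
    have ht : trivialMod sevenNum = true := by
      simp only [trivialMod, List.all_eq_true, List.mem_range]
      intro m hm
      have h3 := rep_x hlt (ix.symm ⟨m / 8, by omega⟩) (ix.symm ⟨m % 8, Nat.mod_lt _ (by norm_num)⟩)
      rw [e, map_one, Units.val_one, Matrix.one_apply, Equiv.apply_symm_apply,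
        Equiv.apply_symm_apply, show 8 * (m / 8) + m % 8 = m from Nat.div_add_mod m 8] at h3
      have hpar : par sevenNum m < 2 := Nat.mod_lt _ Nat.two_pos
      by_cases hd : m / 8 = m % 8
      · rw [if_pos (congrArg ix.symm (Fin.ext hd))] at h3
        rw [if_pos hd, natCast_two_inj hpar Nat.one_lt_two (by rw [← h3, Nat.cast_one])]
        rfl
      · rw [if_neg fun e' => hd (congrArg Fin.val (ix.symm.injective e'))] at h3
        rw [if_neg hd, natCast_two_inj hpar Nat.two_pos (by rw [← h3, Nat.cast_zero])]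
        rfl
    rw [ht] at hne
    exact Bool.noConfusion hne
  refine Schur.ker_eq_bot_of_index_zpowers (by norm_num) (x sevenNum) ?_ σ hσ hexp
  have h := Subgroup.index_mul_card (Subgroup.zpowers (x sevenNum))
  rw [Nat.card_zpowers, orderOf_eq_prime hpow h1, card_all.1] at h
  omega

theorem cover_no_stem {Δ : Type} [Group Δ] [Finite Δ] (σ : Δ →* E)
    (hσ : Cfsg.IsStemExtension σ) : σ.ker = ⊥ := by
  by_contra hne
  obtain ⟨p, hp, hdvd⟩ := Nat.exists_prime_and_dvd
    (fun h : Nat.card σ.ker = 1 => hne (Subgroup.eq_bot_of_card_eq _ h))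
  haveI : Fact p.Prime := ⟨hp⟩
  refine Schur.not_dvd_card_ker_of_exponent_p (G := E) (p := p) ?_ σ hσ hdvd
  intro Γ _ _ ρ hρ hexp
  have hd := Schur.prime_dvd_card_of_dvd_card_ker σ hσ hdvd
  rw [card_all.1, show 696729600 = 2 ^ 14 * (3 ^ 5 * (5 ^ 2 * 7)) by norm_num] at hd
  simp only [hp.dvd_mul] at hd
  rcases hd with h | h | h | h
  · obtain rfl := (Nat.prime_dvd_prime_iff_eq hp Nat.prime_two).1 (hp.dvd_of_dvd_pow h)
    exact two_part ρ hρ hexp
  · obtain rfl := (Nat.prime_dvd_prime_iff_eq hp Nat.prime_three).1 (hp.dvd_of_dvd_pow h)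
    exact odd_part cert3 xi3 fus3Num mod3 odd3_ok Nat.prime_three (m := 2867200)
      (show 696729600 = 3 ^ 5 * 2867200 by norm_num) (show ¬ 3 ∣ 2867200 by norm_num) ρ hρ hexp
  · obtain rfl := (Nat.prime_dvd_prime_iff_eq hp Nat.prime_five).1 (hp.dvd_of_dvd_pow h)
    exact odd_part cert5 xi5 fus5Num mod5 odd5_ok Nat.prime_five (m := 27869184)
      (show 696729600 = 5 ^ 2 * 27869184 by norm_num) (show ¬ 5 ∣ 27869184 by norm_num) ρ hρ hexp
  · obtain rfl := (Nat.prime_dvd_prime_iff_eq hp (by norm_num)).1 h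
    exact seven_part ρ hρ hexp

theorem pOmega_perfect : Group.IsPerfect (Cfsg.POmega (ZMod 2) Q) := by
  refine Group.isPerfect_def.mpr ?_
  rw [commutator_def, ← Subgroup.map_top_of_surjective _ toG_surjective, ← Subgroup.map_commutator,
    ← commutator_def, cover_perfect]

/-- The multiplier over the prime field. -/
theorem multiplier_two :
    Cfsg.HasSchurMultiplier (Cfsg.POmega (ZMod 2) Q) (Multiplicative (ZMod 2 × ZMod 2)) := by
  obtain ⟨e⟩ := exists_ker_equiv
  refine ⟨⟨E, inferInstance, inferInstance, toG,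
    ⟨toG_surjective, ker_le_center, fun z _ => cover_perfect ▸ Subgroup.mem_top z⟩, ⟨e⟩⟩, ?_⟩
  intro Γ _ _ σ hσ
  let ι : commutator E ≃* E := (MulEquiv.subgroupCongr cover_perfect).trans Subgroup.topEquiv
  obtain ⟨π, hπ⟩ := Schur.exists_ker_surjective toG toG_surjective ker_le_center pOmega_perfect
    (fun Δ _ _ ρ hρ => by
      have hk : (ι.toMonoidHom.comp ρ).ker = ρ.ker := by
        ext z
        simp [MonoidHom.mem_ker]
      have := cover_no_stem (ι.toMonoidHom.comp ρ)
        ⟨ι.surjective.comp hρ.1, hk ▸ hρ.2.1, hk ▸ hρ.2.2⟩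
      rwa [hk] at this) σ hσ
  let ψ : toG.ker →* (toG.comp (commutator E).subtype).ker :=
    { toFun := fun z => ⟨⟨z.1, cover_perfect ▸ Subgroup.mem_top z.1⟩, z.2⟩
      map_one' := rfl
      map_mul' := fun _ _ => rfl }
  have hψ : Function.Surjective ψ := fun z => ⟨⟨z.1.1, z.2⟩, rfl⟩
  exact ⟨(π.comp ψ).comp e.symm.toMonoidHom, (hπ.comp hψ).comp e.symm.surjective⟩

end CfsgLib.OPlusEightTwo
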