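import Cfsg.Agent.OPlusEightTwo.Code
import Cfsg.Agent.Schur.Collect
import Mathlib.Algebra.Group.Subgroup.Basic
import Mathlib.Algebra.Group.Units.Defs
import Mathlib.Data.Fintype.Pi
import Mathlib.Data.Matrix.Basic

/-!
A group of pairs of matrices given by a table of elements, each with its inverse and with a word in
the earlier ones.
-/

set_option autoImplicit false

namespace CfsgLib.OPlusEightTwo

open CfsgLib.Schur.Pc (ev)

/-- An element, its inverse, and a word for it. -/
structure Entry where
  fst : ℕ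
  snd : ℕ
  ifst : ℕ
  isnd : ℕ
  word : List ℕ

/-- The trivial element. -/
def Entry.one : Entry := ⟨oneC, oneC, oneC, oneC, []⟩

/-- A table indexed by the binary digits, the lowest one first. -/
inductive Tab where
  | leaf (e : Entry)
  | node (l r : Tab)

/-- Look up. -/
def Tab.get : Tab → ℕ → Entry
  | .leaf e, _ => e
  | .node l r, a => bif Nat.beq (a % 2) 0 then l.get (a / 2) else r.get (a / 2)

/-- All entries satisfy a test. -/
def Tab.all (p : Entry → Bool) : Tab → Bool
  | .leaf e => p e
  | .node l r => l.all p && r.all p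

theorem Tab.all_get {p : Entry → Bool} : ∀ {t : Tab}, t.all p = true → ∀ a, p (t.get a) = true
  | .leaf _, h, _ => h
  | .node l r, h, a => by
    simp only [Tab.all, Bool.and_eq_true] at h
    rw [Tab.get]
    cases Nat.beq (a % 2) 0
    · exact Tab.all_get h.2 _
    · exact Tab.all_get h.1 _

/-- Pairs of matrices. -/
abbrev Amb : Type := Matrix (Fin 8) (Fin 8) (ZMod 4) × Matrix (Fin 8) (Fin 8) (ZMod 4)

/-- Product of coded pairs. -/
def mulP (a b : ℕ × ℕ) : ℕ × ℕ := (mulC a.1 b.1, mulC a.2 b.2)

/-- Reduced pairs. -/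
def wfP (a : ℕ × ℕ) : Bool := wf a.1 && wf a.2

/-- The pair of matrices of a coded pair. -/
def toP (a : ℕ × ℕ) : Amb := (toM a.1, toM a.2)

theorem toP_mulP {a b : ℕ × ℕ} (ha : wfP a = true) (hb : wfP b = true) :
    toP (mulP a b) = toP a * toP b := by
  simp only [wfP, Bool.and_eq_true] at ha hb
  exact Prod.ext (toM_mulC ha.1 hb.1) (toM_mulC ha.2 hb.2)

/-- Equality of coded pairs. -/
def eqP (a b : ℕ × ℕ) : Bool := Nat.beq a.1 b.1 && Nat.beq a.2 b.2

theorem eq_of_eqP {a b : ℕ × ℕ} (h : eqP a b = true) : a = b := by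
  simp only [eqP, Bool.and_eq_true] at h
  exact Prod.ext (Nat.eq_of_beq_eq_true h.1) (Nat.eq_of_beq_eq_true h.2)

/-- The element of an entry. -/
def Entry.code (e : Entry) : ℕ × ℕ := (e.fst, e.snd)

/-- Its inverse. -/
def Entry.icode (e : Entry) : ℕ × ℕ := (e.ifst, e.isnd)

/-- The entry is an element with its inverse. -/
def Entry.valid (e : Entry) : Bool :=
  wfP e.code && wfP e.icode && eqP (mulP e.code e.icode) (oneC, oneC) &&
    eqP (mulP e.icode e.code) (oneC, oneC)

theorem Entry.valid_spec {e : Entry} (h : e.valid = true) :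
    toP e.code * toP e.icode = 1 ∧ toP e.icode * toP e.code = 1 := by
  simp only [Entry.valid, Bool.and_eq_true] at h
  have h1 : toP (oneC, oneC) = 1 := Prod.ext toM_oneC toM_oneC
  constructor
  · rw [← toP_mulP h.1.1.1 h.1.1.2, eq_of_eqP h.1.2, h1]
  · rw [← toP_mulP h.1.1.2 h.1.1.1, eq_of_eqP h.2, h1]

/-- The unit of an entry. -/
def Entry.unit (e : Entry) : Ambˣ :=
  if h : e.valid = true then
    ⟨toP e.code, toP e.icode, (Entry.valid_spec h).1, (Entry.valid_spec h).2⟩
  else 1

/-- A table with its length and the number of its generators. -/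
structure Sys where
  tab : Tab
  len : ℕ
  n : ℕ

namespace Sys

variable (S : Sys)

/-- The element number `a`. -/
def el (a : ℕ) : Ambˣ := (S.tab.get a).unit

/-- The code of a word. -/
def wcode : List ℕ → ℕ × ℕ
  | [] => (oneC, oneC)
  | a :: u => mulP (S.tab.get a).code (wcode u)

/-- All letters are numbers of entries. -/
def letters (u : List ℕ) : Bool := u.all fun a => Nat.blt a S.len

/-- Two words have the same value. -/
def weq (u v : List ℕ) : Bool := S.letters u && S.letters v && eqP (S.wcode u) (S.wcode v)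

/-- The later entries are given by their words. -/
def defsOK : Bool :=
  (List.range S.len).all fun a => Nat.blt a S.n ||
    ((S.tab.get a).word.all fun b => Nat.blt b a) &&
      eqP (S.tab.get a).code (S.wcode (S.tab.get a).word)

/-- The structural checks. -/
def OK : Bool := S.tab.all Entry.valid && S.defsOK && Nat.ble S.n S.len

theorem val_el {S : Sys} (hS : S.OK = true) (a : ℕ) :
    ((S.el a : Ambˣ) : Amb) = toP (S.tab.get a).code := by
  simp only [OK, Bool.and_eq_true] at hS
  rw [el, Entry.unit, dif_pos (Tab.all_get hS.1.1 a)]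

theorem val_ev {S : Sys} (hS : S.OK = true) : ∀ u : List ℕ,
    wfP (S.wcode u) = true ∧ ((ev S.el u : Ambˣ) : Amb) = toP (S.wcode u)
  | [] => ⟨by rw [wcode, wfP, wf_oneC]; rfl, by
      rw [Schur.Pc.ev_nil, Units.val_one, wcode]
      exact (Prod.ext toM_oneC toM_oneC : toP (oneC, oneC) = 1).symm⟩
  | a :: u => by
    obtain ⟨h1, h2⟩ := val_ev hS u
    have hv : wfP (S.tab.get a).code = true := by
      have h := hS
      simp only [OK, Bool.and_eq_true] at h
      have hv := Tab.all_get h.1.1 a
      simp only [Entry.valid, Bool.and_eq_true] at hv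
      exact hv.1.1.1
    refine ⟨?_, ?_⟩
    · rw [wcode]
      show (wf (mulC _ _) && wf (mulC _ _)) = true
      rw [wf_mulC, wf_mulC]; rfl
    · rw [Schur.Pc.ev_cons, Units.val_mul, val_el hS, h2, wcode, toP_mulP hv h1]

theorem weq_el {S : Sys} (hS : S.OK = true) {u v : List ℕ} (h : S.weq u v = true) :
    ev S.el u = ev S.el v := by
  simp only [weq, Bool.and_eq_true] at h
  exact Units.ext (by rw [(val_ev hS u).2, (val_ev hS v).2, eq_of_eqP h.2])

/-- The group of the generators. -/
def grp : Subgroup Ambˣ := Subgroup.closure {g | ∃ a, a < S.n ∧ S.el a = g}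

theorem el_mem {S : Sys} (hS : S.OK = true) : ∀ a, a < S.len → S.el a ∈ S.grp := by
  intro a
  induction a using Nat.strong_induction_on with
  | _ a ih =>
    intro ha
    by_cases h1 : a < S.n
    · exact Subgroup.subset_closure ⟨a, h1, rfl⟩
    have h := hS
    simp only [OK, defsOK, Bool.and_eq_true, List.all_eq_true, List.mem_range,
      Bool.or_eq_true] at h
    rcases h.1.2 a ha with h2 | ⟨h2, h3⟩
    · exact absurd (Nat.le_of_ble_eq_true h2) h1
    · have e : S.el a = ev S.el (S.tab.get a).word :=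
        Units.ext (by rw [val_el hS, (val_ev hS _).2, eq_of_eqP h3])
      rw [e]
      exact Schur.Pc.ev_mem _ fun b hb => by
        have hb' : b < a := Nat.le_of_ble_eq_true (h2 b hb)
        exact ih b hb' (by omega)

/-- The elements inside the group. -/
def x (hS : S.OK = true) (a : ℕ) : S.grp :=
  if h : a < S.len then ⟨S.el a, el_mem hS a h⟩ else 1

theorem coe_ev {S : Sys} (hS : S.OK = true) {u : List ℕ} (hu : S.letters u = true) :
    ((ev (S.x hS) u : S.grp) : Ambˣ) = ev S.el u := by
  induction u with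
  | nil => rfl
  | cons a u ih =>
    simp only [letters, List.all_cons, Bool.and_eq_true] at hu
    rw [Schur.Pc.ev_cons, Schur.Pc.ev_cons, Subgroup.coe_mul, ih hu.2]
    have ha : a < S.len := Nat.le_of_ble_eq_true hu.1
    rw [x, dif_pos ha]

theorem weq_sound {S : Sys} (hS : S.OK = true) {u v : List ℕ} (h : S.weq u v = true) :
    ev (S.x hS) u = ev (S.x hS) v := by
  refine Subtype.ext ?_
  have h' := h
  simp only [weq, Bool.and_eq_true] at h'
  rw [coe_ev hS h'.1.1, coe_ev hS h'.1.2, weq_el hS h]

theorem val_x {S : Sys} (hS : S.OK = true) {u : List ℕ} (hu : S.letters u = true) :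
    (((ev (S.x hS) u : S.grp) : Ambˣ) : Amb) = toP (S.wcode u) := by
  rw [coe_ev hS hu, (val_ev hS u).2]

theorem closure_x {S : Sys} (hS : S.OK = true) :
    Subgroup.closure {g : S.grp | ∃ a, a < S.n ∧ S.x hS a = g} = ⊤ := by
  have hle : S.n ≤ S.len := by
    have h := hS
    simp only [OK, Bool.and_eq_true] at h
    exact Nat.le_of_ble_eq_true h.2
  refine Subgroup.map_injective S.grp.subtype_injective ?_
  rw [MonoidHom.map_closure, ← MonoidHom.range_eq_map, Subgroup.range_subtype]
  show _ = Subgroup.closure {g | ∃ a, a < S.n ∧ S.el a = g}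
  congr 1
  ext g
  constructor
  · rintro ⟨_, ⟨a, ha, rfl⟩, rfl⟩
    exact ⟨a, ha, by rw [x, dif_pos (ha.trans_le hle)]; rfl⟩
  · rintro ⟨a, ha, rfl⟩
    exact ⟨S.x hS a, ⟨a, ha, rfl⟩, by rw [x, dif_pos (ha.trans_le hle)]; rfl⟩

end Sys

instance (S : Sys) : Finite S.grp :=
  Finite.of_injective (fun g : S.grp => ((g : Ambˣ) : Amb))
    fun _ _ h => Subtype.ext (Units.ext h)

end CfsgLib.OPlusEightTwo
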