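import Cfsg.Agent.OPlusEightTwo.Data

/-!
Generated data: coset tables and orbits.
-/

set_option autoImplicit false
set_option maxRecDepth 100000
set_option maxHeartbeats 4000000

namespace CfsgLib.OPlusEightTwo

/-- The generators of the unipotent subgroup. -/
def pcNum : List ℕ := [0, 1, 2, 3, 8, 9, 10, 11, 12, 13, 14, 15, 16, 17]

/-- The two central elements. -/
def centralNum : List ℕ := [16, 17]

/-- The trivial element. -/
def oneNum : ℕ := 22

/-- An element of order seven. -/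
def sevenNum : ℕ := 462

/-- The generators of the parabolic subgroups. -/
def parGens : List (List ℕ) :=
 [[0, 1, 2, 3, 8, 9, 10, 11, 12, 13, 14, 15, 16, 17],
  [0, 1, 2, 3, 8, 9, 10, 11, 12, 13, 14, 15, 16, 17, 4],
  [0, 1, 2, 3, 8, 9, 10, 11, 12, 13, 14, 15, 16, 17, 4, 5],
  [0, 1, 2, 3, 8, 9, 10, 11, 12, 13, 14, 15, 16, 17, 4, 5, 6],
  [0, 1, 2, 3, 8, 9, 10, 11, 12, 13, 14, 15, 16, 17, 4, 5, 6, 7]]

/-- Coset representatives. -/
def reps1 : List ℕ := [22, 23, 24]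

/-- A row of a coset table. -/
def coset1_0 : List (ℕ × List ℕ) :=
   [(0, [0]),
    (2, []),
    (1, [])]

/-- A row of a coset table. -/
def coset1_1 : List (ℕ × List ℕ) :=
   [(0, [1]),
    (1, [1]),
    (2, [8])]

/-- A row of a coset table. -/
def coset1_2 : List (ℕ × List ℕ) :=
   [(0, [2]),
    (1, [2, 16]),
    (2, [2])]

/-- A row of a coset table. -/
def coset1_3 : List (ℕ × List ℕ) :=
   [(0, [3]),
    (1, [3, 16, 17]),
    (2, [3])]

/-- A row of a coset table. -/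
def coset1_4 : List (ℕ × List ℕ) :=
   [(0, [8]),
    (1, [1, 8]),
    (2, [1, 8])]

/-- A row of a coset table. -/
def coset1_5 : List (ℕ × List ℕ) :=
   [(0, [9]),
    (1, [9]),
    (2, [11])]

/-- A row of a coset table. -/
def coset1_6 : List (ℕ × List ℕ) :=
   [(0, [10]),
    (1, [10]),
    (2, [12])]

/-- A row of a coset table. -/
def coset1_7 : List (ℕ × List ℕ) :=
   [(0, [11]),
    (1, [9, 11, 16]),
    (2, [9, 11, 16])]

/-- A row of a coset table. -/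
def coset1_8 : List (ℕ × List ℕ) :=
   [(0, [12]),
    (1, [10, 12, 16, 17]),
    (2, [10, 12, 16, 17])]

/-- A row of a coset table. -/
def coset1_9 : List (ℕ × List ℕ) :=
   [(0, [13]),
    (1, [13]),
    (2, [14])]

/-- A row of a coset table. -/
def coset1_10 : List (ℕ × List ℕ) :=
   [(0, [14]),
    (1, [13, 14, 16, 17]),
    (2, [13, 14, 16, 17])]

/-- A row of a coset table. -/
def coset1_11 : List (ℕ × List ℕ) :=
   [(0, [15]),
    (1, [15, 17]),
    (2, [15])]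

/-- A row of a coset table. -/
def coset1_12 : List (ℕ × List ℕ) :=
   [(0, [16]),
    (1, [16]),
    (2, [16])]

/-- A row of a coset table. -/
def coset1_13 : List (ℕ × List ℕ) :=
   [(0, [17]),
    (1, [17]),
    (2, [17])]

/-- A row of a coset table. -/
def coset1_14 : List (ℕ × List ℕ) :=
   [(1, []),
    (0, []),
    (2, [0])]

/-- A coset table. -/
def coset1 : List (List (ℕ × List ℕ)) := [coset1_0, coset1_1, coset1_2, coset1_3, coset1_4, coset1_5, coset1_6, coset1_7, coset1_8, coset1_9, coset1_10, coset1_11, coset1_12, coset1_13, coset1_14]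

/-- Coset representatives. -/
def reps2 : List ℕ := [22, 25, 26, 27, 28, 29, 30]

/-- A row of a coset table. -/
def coset2_0 : List (ℕ × List ℕ) :=
   [(0, [0]),
    (1, [0]),
    (2, [8]),
    (5, []),
    (6, []),
    (3, []),
    (4, [])]

/-- A row of a coset table. -/
def coset2_1 : List (ℕ × List ℕ) :=
   [(0, [1]),
    (2, []),
    (1, []),
    (4, []),
    (3, []),
    (5, [0, 8]),
    (6, [0, 8])]

/-- A row of a coset table. -/
def coset2_2 : List (ℕ × List ℕ) :=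
   [(0, [2]),
    (1, [2]),
    (2, [9]),
    (3, [2, 16]),
    (4, [9, 16]),
    (5, [2]),
    (6, [9])]

/-- A row of a coset table. -/
def coset2_3 : List (ℕ × List ℕ) :=
   [(0, [3]),
    (1, [3]),
    (2, [10]),
    (3, [3, 16, 17]),
    (4, [10, 16, 17]),
    (5, [3]),
    (6, [10])]

/-- A row of a coset table. -/
def coset2_4 : List (ℕ × List ℕ) :=
   [(0, [8]),
    (1, [0, 8]),
    (2, [0, 8]),
    (4, [0, 8]),
    (3, [0, 8]),
    (6, [0, 8]),
    (5, [0, 8])]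

/-- A row of a coset table. -/
def coset2_5 : List (ℕ × List ℕ) :=
   [(0, [9]),
    (1, [2, 9]),
    (2, [2, 9]),
    (3, [2, 9]),
    (4, [2, 9]),
    (5, [11, 16]),
    (6, [11])]

/-- A row of a coset table. -/
def coset2_6 : List (ℕ × List ℕ) :=
   [(0, [10]),
    (1, [3, 10]),
    (2, [3, 10]),
    (3, [3, 10]),
    (4, [3, 10]),
    (5, [12, 16, 17]),
    (6, [12])]

/-- A row of a coset table. -/
def coset2_7 : List (ℕ × List ℕ) :=
   [(0, [11]),
    (1, [11, 16]),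
    (2, [11]),
    (3, [2, 9, 11]),
    (4, [2, 9, 11, 16]),
    (5, [2, 9, 11]),
    (6, [2, 9, 11, 16])]

/-- A row of a coset table. -/
def coset2_8 : List (ℕ × List ℕ) :=
   [(0, [12]),
    (1, [12, 16, 17]),
    (2, [12]),
    (3, [3, 10, 12]),
    (4, [3, 10, 12, 16, 17]),
    (5, [3, 10, 12]),
    (6, [3, 10, 12, 16, 17])]

/-- A row of a coset table. -/
def coset2_9 : List (ℕ × List ℕ) :=
   [(0, [13]),
    (1, [13, 17]),
    (2, [13]),
    (3, [13, 17]),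
    (4, [13]),
    (5, [14]),
    (6, [15, 16])]

/-- A row of a coset table. -/
def coset2_10 : List (ℕ × List ℕ) :=
   [(0, [14]),
    (1, [14]),
    (2, [15, 16]),
    (3, [13, 14, 16]),
    (4, [13, 15, 17]),
    (5, [13, 14, 16]),
    (6, [13, 15, 17])]

/-- A row of a coset table. -/
def coset2_11 : List (ℕ × List ℕ) :=
   [(0, [15]),
    (1, [14, 15, 16]),
    (2, [14, 15, 16]),
    (3, [14, 15, 16, 17]),
    (4, [14, 15, 16, 17]),
    (5, [14, 15, 16]),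
    (6, [14, 15, 16])]

/-- A row of a coset table. -/
def coset2_12 : List (ℕ × List ℕ) :=
   [(0, [16]),
    (1, [16]),
    (2, [16]),
    (3, [16]),
    (4, [16]),
    (5, [16]),
    (6, [16])]

/-- A row of a coset table. -/
def coset2_13 : List (ℕ × List ℕ) :=
   [(0, [17]),
    (1, [17]),
    (2, [17]),
    (3, [17]),
    (4, [17]),
    (5, [17]),
    (6, [17])]

/-- A row of a coset table. -/
def coset2_14 : List (ℕ × List ℕ) :=
   [(0, [4]),
    (3, []),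
    (4, []),
    (1, []),
    (2, []),
    (5, [0]),
    (6, [8])]

/-- A row of a coset table. -/
def coset2_15 : List (ℕ × List ℕ) :=
   [(1, []),
    (0, []),
    (2, [1]),
    (5, [0, 4, 0]),
    (4, [4, 1]),
    (3, [0, 4, 0]),
    (6, [4, 1])]

/-- A coset table. -/
def coset2 : List (List (ℕ × List ℕ)) := [coset2_0, coset2_1, coset2_2, coset2_3, coset2_4, coset2_5, coset2_6, coset2_7, coset2_8, coset2_9, coset2_10, coset2_11, coset2_12, coset2_13, coset2_14, coset2_15]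

/-- Coset representatives. -/
def reps3 : List ℕ := [22, 31, 32, 33, 34, 35, 36, 37, 38, 39, 40, 41, 42, 43, 44]

/-- A row of a coset table. -/
def coset3_0 : List (ℕ × List ℕ) :=
   [(0, [0]),
    (1, [0, 16]),
    (2, [0]),
    (3, [0, 16]),
    (4, [0]),
    (5, [8]),
    (10, []),
    (7, [11, 16]),
    (12, []),
    (13, []),
    (6, []),
    (14, []),
    (8, []),
    (9, []),
    (11, [])]

/-- A row of a coset table. -/
def coset3_1 : List (ℕ × List ℕ) :=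
   [(0, [1]),
    (1, [1]),
    (2, [9, 16]),
    (5, []),
    (7, []),
    (3, []),
    (9, []),
    (4, []),
    (11, []),
    (6, []),
    (10, [0, 8, 16]),
    (8, []),
    (12, [0, 11, 16]),
    (13, [0, 8, 16]),
    (14, [0, 11, 16])]

/-- A row of a coset table. -/
def coset3_2 : List (ℕ × List ℕ) :=
   [(0, [2]),
    (2, []),
    (1, []),
    (4, []),
    (3, []),
    (5, [1, 9, 16]),
    (8, [16]),
    (7, [1, 9, 16]),
    (6, [16]),
    (9, [1, 9]),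
    (12, []),
    (11, [1, 9]),
    (10, []),
    (13, [1, 9, 16]),
    (14, [1, 9, 16])]

/-- A row of a coset table. -/
def coset3_3 : List (ℕ × List ℕ) :=
   [(0, [3]),
    (1, [3, 17]),
    (2, [3]),
    (3, [3, 17]),
    (4, [3]),
    (5, [10]),
    (6, [3, 16]),
    (7, [13]),
    (8, [3, 16, 17]),
    (9, [10, 16, 17]),
    (10, [3, 17]),
    (11, [13, 16, 17]),
    (12, [3]),
    (13, [10]),
    (14, [13])]

/-- A row of a coset table. -/
def coset3_4 : List (ℕ × List ℕ) :=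
   [(0, [8]),
    (1, [8]),
    (2, [11, 16]),
    (3, [0, 8, 16]),
    (4, [0, 11, 16]),
    (5, [0, 8, 16]),
    (9, [0, 8, 16]),
    (7, [0, 11, 16]),
    (11, [0, 11, 16]),
    (6, [0, 8, 16]),
    (13, [0, 8, 16]),
    (8, [0, 11, 16]),
    (14, [0, 11, 16]),
    (10, [0, 8, 16]),
    (12, [0, 11, 16])]

/-- A row of a coset table. -/
def coset3_5 : List (ℕ × List ℕ) :=
   [(0, [9]),
    (1, [1, 9, 16]),
    (2, [1, 9, 16]),
    (4, [1, 9, 16]),
    (3, [1, 9, 16]),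
    (7, [1, 9, 16]),
    (8, [1, 9, 16]),
    (5, [1, 9, 16]),
    (6, [1, 9, 16]),
    (11, [1, 9, 16]),
    (10, [8, 11]),
    (9, [1, 9, 16]),
    (12, [8, 11]),
    (13, [8, 11, 16]),
    (14, [8, 11, 16])]

/-- A row of a coset table. -/
def coset3_6 : List (ℕ × List ℕ) :=
   [(0, [10]),
    (1, [10]),
    (2, [13]),
    (3, [3, 10, 17]),
    (4, [3, 13]),
    (5, [3, 10, 17]),
    (6, [3, 10, 17]),
    (7, [3, 13]),
    (8, [3, 13]),
    (9, [3, 10, 17]),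
    (10, [12, 16, 17]),
    (11, [3, 13]),
    (12, [14, 16, 17]),
    (13, [12]),
    (14, [14])]

/-- A row of a coset table. -/
def coset3_7 : List (ℕ × List ℕ) :=
   [(0, [11]),
    (1, [8, 11, 16]),
    (2, [8, 11, 16]),
    (3, [8, 11]),
    (4, [8, 11]),
    (5, [8, 11, 16]),
    (8, [1, 8, 9, 11, 16]),
    (7, [8, 11, 16]),
    (6, [1, 8, 9, 11, 16]),
    (11, [1, 8, 9, 11]),
    (12, [1, 8, 9, 11, 16]),
    (9, [1, 8, 9, 11]),
    (10, [1, 8, 9, 11, 16]),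
    (14, [1, 8, 9, 11]),
    (13, [1, 8, 9, 11])]

/-- A row of a coset table. -/
def coset3_8 : List (ℕ × List ℕ) :=
   [(0, [12]),
    (1, [12]),
    (2, [14]),
    (3, [12, 16, 17]),
    (4, [14, 16, 17]),
    (5, [12]),
    (6, [3, 10, 12, 17]),
    (7, [14]),
    (8, [3, 13, 14]),
    (9, [3, 10, 12, 16]),
    (10, [3, 10, 12, 17]),
    (11, [3, 13, 14, 16, 17]),
    (12, [3, 13, 14]),
    (13, [3, 10, 12, 16]),
    (14, [3, 13, 14, 16, 17])]

/-- A row of a coset table. -/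
def coset3_9 : List (ℕ × List ℕ) :=
   [(0, [13]),
    (1, [10, 13, 17]),
    (2, [10, 13, 17]),
    (3, [10, 13]),
    (4, [10, 13]),
    (5, [10, 13, 17]),
    (6, [10, 13]),
    (7, [10, 13, 17]),
    (8, [10, 13]),
    (9, [10, 13, 17]),
    (10, [12, 14, 17]),
    (11, [10, 13, 17]),
    (12, [12, 14, 17]),
    (13, [15, 17]),
    (14, [15, 16])]

/-- A row of a coset table. -/
def coset3_10 : List (ℕ × List ℕ) :=
   [(0, [14]),
    (1, [12, 14, 17]),
    (2, [12, 14, 17]),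
    (3, [12, 14, 17]),
    (4, [12, 14, 17]),
    (5, [15, 17]),
    (6, [10, 12, 13, 14]),
    (7, [15, 16]),
    (8, [10, 12, 13, 14]),
    (9, [10, 13, 15, 16, 17]),
    (10, [10, 12, 13, 14]),
    (11, [10, 13, 15]),
    (12, [10, 12, 13, 14]),
    (13, [10, 13, 15, 16, 17]),
    (14, [10, 13, 15])]

/-- A row of a coset table. -/
def coset3_11 : List (ℕ × List ℕ) :=
   [(0, [15]),
    (1, [15, 16, 17]),
    (2, [15]),
    (3, [12, 14, 15]),
    (4, [12, 14, 15, 16, 17]),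
    (5, [12, 14, 15]),
    (6, [12, 14, 15, 17]),
    (7, [12, 14, 15, 16, 17]),
    (8, [12, 14, 15, 16]),
    (9, [12, 14, 15, 17]),
    (10, [12, 14, 15]),
    (11, [12, 14, 15, 16]),
    (12, [12, 14, 15, 16, 17]),
    (13, [12, 14, 15]),
    (14, [12, 14, 15, 16, 17])]

/-- A row of a coset table. -/
def coset3_12 : List (ℕ × List ℕ) :=
   [(0, [16]),
    (1, [16]),
    (2, [16]),
    (3, [16]),
    (4, [16]),
    (5, [16]),
    (6, [16]),
    (7, [16]),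
    (8, [16]),
    (9, [16]),
    (10, [16]),
    (11, [16]),
    (12, [16]),
    (13, [16]),
    (14, [16])]

/-- A row of a coset table. -/
def coset3_13 : List (ℕ × List ℕ) :=
   [(0, [17]),
    (1, [17]),
    (2, [17]),
    (3, [17]),
    (4, [17]),
    (5, [17]),
    (6, [17]),
    (7, [17]),
    (8, [17]),
    (9, [17]),
    (10, [17]),
    (11, [17]),
    (12, [17]),
    (13, [17]),
    (14, [17])]

/-- A row of a coset table. -/
def coset3_14 : List (ℕ × List ℕ) :=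
   [(0, [4]),
    (1, [4, 16]),
    (2, [4]),
    (6, []),
    (8, []),
    (9, []),
    (3, []),
    (11, []),
    (4, []),
    (5, []),
    (10, [0, 16]),
    (7, []),
    (12, [0]),
    (13, [8]),
    (14, [11, 16])]

/-- A row of a coset table. -/
def coset3_15 : List (ℕ × List ℕ) :=
   [(0, [5]),
    (3, []),
    (4, []),
    (1, []),
    (2, []),
    (5, [1]),
    (10, [0, 4, 0, 16]),
    (7, [9, 16]),
    (12, [0, 4, 0]),
    (9, [4, 1, 16]),
    (6, [0, 4, 0, 16]),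
    (11, [4, 9, 16]),
    (8, [0, 4, 0]),
    (13, [4, 1, 16]),
    (14, [4, 9, 16])]

/-- A row of a coset table. -/
def coset3_16 : List (ℕ × List ℕ) :=
   [(1, []),
    (0, []),
    (2, [2]),
    (5, [1, 5, 1]),
    (4, [5, 2, 16]),
    (3, [1, 5, 1]),
    (9, [1, 5, 1, 16]),
    (7, [5, 2, 16]),
    (8, [5, 2]),
    (6, [1, 5, 1, 16]),
    (13, [1, 5, 1]),
    (11, [5, 2]),
    (12, [5, 2, 16]),
    (10, [1, 5, 1]),
    (14, [5, 2, 16])]

/-- A coset table. -/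
def coset3 : List (List (ℕ × List ℕ)) := [coset3_0, coset3_1, coset3_2, coset3_3, coset3_4, coset3_5, coset3_6, coset3_7, coset3_8, coset3_9, coset3_10, coset3_11, coset3_12, coset3_13, coset3_14, coset3_15, coset3_16]

/-- Coset representatives. -/
def reps4 : List ℕ := [22, 45, 46, 47, 48, 49, 50, 51, 52, 53, 54, 55, 56, 57, 58, 59, 60, 61, 62, 63, 64, 65, 66, 67, 68, 69, 70, 71, 72, 73, 74, 75, 76, 77, 78, 79, 80, 81, 82, 83, 84, 85, 86, 87, 88, 89, 90, 91, 92, 93, 94, 95, 96, 97, 98, 99, 100, 101, 102, 103, 104, 105, 106, 107, 108, 109, 110, 111, 112, 113, 114, 115, 116, 117, 118, 119, 120, 121, 122, 123, 124, 125, 126, 127, 128, 129, 130, 131, 132, 133, 134, 135, 136, 137, 138, 139, 140, 141, 142, 143, 144, 145, 146, 147, 148, 149, 150, 151, 152, 153, 154, 155, 156, 157, 158, 159, 160, 161, 162, 163, 164, 165, 166, 167, 168, 169, 170, 171, 172, 173, 174, 175, 176, 177, 178]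

/-- A row of a coset table. -/
def coset4_0 : List (ℕ × List ℕ) :=
   [(0, [0]),
    (1, [0, 16, 17]),
    (2, [0]),
    (3, [0, 16, 17]),
    (4, [0]),
    (5, [8]),
    (13, []),
    (7, [0, 17]),
    (8, [12, 16, 17]),
    (18, []),
    (10, [0, 16]),
    (21, []),
    (12, [8, 16]),
    (6, []),
    (24, [16]),
    (15, [0, 16, 17]),
    (27, []),
    (17, [12, 17]),
    (9, []),
    (30, [16]),
    (20, [0]),
    (11, []),
    (33, [16]),
    (23, [8]),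
    (14, [16]),
    (36, []),
    (37, [16]),
    (16, []),
    (43, [16]),
    (29, [12, 16, 17]),
    (19, [16]),
    (46, []),
    (47, [16]),
    (22, [16]),
    (53, []),
    (40, [0, 8, 16, 17]),
    (25, []),
    (26, [16]),
    (58, []),
    (54, [0, 8, 16, 17]),
    (35, [0, 8, 16, 17]),
    (64, [0, 2, 8, 9, 11, 16]),
    (59, [17]),
    (28, [16]),
    (71, []),
    (50, [0, 12, 16, 17]),
    (31, []),
    (32, [16]),
    (75, []),
    (72, [0, 12, 16, 17]),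
    (45, [0, 12, 16, 17]),
    (81, [0, 2, 12, 13, 14, 16, 17]),
    (76, [17]),
    (34, []),
    (39, [0, 8, 16, 17]),
    (55, [6, 1, 8, 16, 17]),
    (61, [4, 0, 1, 16]),
    (65, [0, 8]),
    (38, []),
    (42, [17]),
    (89, [16, 17]),
    (56, [0, 4, 8, 16]),
    (62, [2, 9, 11, 17]),
    (84, [0, 8]),
    (41, [0, 2, 8, 9, 11]),
    (57, [0, 8]),
    (100, [0, 2, 8, 9, 11, 17]),
    (90, [16]),
    (70, [2, 13, 14, 16]),
    (108, [0, 2, 12, 13, 14, 17]),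
    (68, [2, 13, 14, 16]),
    (44, []),
    (49, [0, 12, 16, 17]),
    (73, [6, 10, 12, 16]),
    (78, [4, 0, 10, 17]),
    (48, []),
    (52, [17]),
    (110, [16, 17]),
    (74, [0, 4, 12, 17]),
    (79, [2, 13, 14]),
    (88, [0, 12, 17]),
    (51, [0, 2, 12, 13, 14, 17]),
    (102, [5, 1, 3, 8, 12, 16]),
    (101, [5, 1, 3, 8, 12, 17]),
    (63, [0, 8]),
    (85, [6, 1, 8, 16, 17]),
    (86, [6, 1, 8]),
    (95, [4, 0, 1, 17]),
    (80, [0, 12, 17]),
    (60, [16, 17]),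
    (67, [16]),
    (98, [1, 10]),
    (118, []),
    (93, [2, 13, 14, 16]),
    (94, [2, 9, 11, 17]),
    (87, [0, 4, 8, 17]),
    (96, [2, 9, 11, 16]),
    (116, [0, 8, 16, 17]),
    (91, [1, 10]),
    (99, [2, 9, 14, 15, 16, 17]),
    (66, [0, 2, 8, 9, 11, 16, 17]),
    (83, [1, 5, 0, 8, 10, 12, 17]),
    (82, [1, 5, 0, 8, 10, 12, 16]),
    (128, [0, 2, 8, 9, 11, 16]),
    (129, [0, 2, 8, 9, 11, 17]),
    (107, [2, 13, 14, 17]),
    (130, [0, 2, 12, 13, 14, 16, 17]),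
    (105, [2, 13, 14, 17]),
    (69, [0, 2, 12, 13, 14, 16, 17]),
    (109, [6, 10, 12, 16]),
    (77, [16, 17]),
    (111, [2, 13, 14]),
    (113, [1, 5, 0, 10, 16, 17]),
    (112, [5, 0, 1, 3, 12]),
    (114, [1, 5, 6, 1, 5, 0, 1, 8]),
    (123, [4, 1, 5, 1, 3, 8, 12]),
    (97, [0, 8, 16, 17]),
    (117, [6, 1, 8]),
    (92, []),
    (119, [2, 13, 14, 16]),
    (125, [1, 10, 16, 17]),
    (121, [2, 13, 14, 17]),
    (122, [2, 9, 11, 16]),
    (115, [1, 5, 0, 4, 8, 12]),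
    (124, [2, 9, 11, 17]),
    (120, [1, 10, 16, 17]),
    (126, [2, 9, 14, 15]),
    (127, [2, 9, 11, 16, 17]),
    (103, [0, 2, 8, 9, 11]),
    (104, [0, 2, 8, 9, 11, 16, 17]),
    (106, [0, 2, 12, 13, 14, 17]),
    (131, [1, 5, 6, 1, 5, 0, 1, 8]),
    (132, [2, 13, 14, 17]),
    (133, [2, 9, 11, 17]),
    (134, [2, 9, 14, 15])]

/-- A row of a coset table. -/
def coset4_1 : List (ℕ × List ℕ) :=
   [(0, [1]),
    (1, [1]),
    (2, [10, 16, 17]),
    (5, []),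
    (8, []),
    (3, []),
    (11, []),
    (12, []),
    (4, []),
    (16, []),
    (17, []),
    (6, []),
    (7, []),
    (13, [0, 8, 16, 17]),
    (22, []),
    (15, [2, 9, 16, 17]),
    (9, []),
    (10, []),
    (18, [0, 12, 16, 17]),
    (28, []),
    (20, [2, 13, 16, 17]),
    (21, [0, 8, 16, 17]),
    (14, []),
    (23, [2, 9, 16, 17]),
    (24, [0, 8, 16, 17]),
    (25, [2, 9, 16, 17]),
    (39, []),
    (27, [0, 12, 16, 17]),
    (19, []),
    (29, [2, 13, 16, 17]),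
    (30, [0, 12, 16, 17]),
    (31, [2, 13, 16, 17]),
    (49, []),
    (33, [0, 8, 16, 17]),
    (34, [2, 9, 16, 17]),
    (54, []),
    (36, [11]),
    (56, [0, 4, 8]),
    (55, [2, 6, 9, 16]),
    (26, []),
    (61, []),
    (62, []),
    (63, []),
    (43, [0, 12, 16, 17]),
    (44, [2, 13, 16, 17]),
    (72, []),
    (46, [14, 17]),
    (74, [0, 4, 12, 16, 17]),
    (73, [2, 6, 13, 16, 17]),
    (32, []),
    (78, []),
    (79, []),
    (80, []),
    (53, [11, 16]),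
    (35, []),
    (38, [6, 1, 2, 9]),
    (37, [4, 0, 1]),
    (84, []),
    (85, [2, 6, 2, 11, 17]),
    (87, [0, 4, 8]),
    (86, [2, 6, 9, 16]),
    (40, []),
    (41, []),
    (42, []),
    (94, [0, 8, 11, 17]),
    (95, []),
    (96, []),
    (67, [1, 10, 16]),
    (98, [16, 17]),
    (99, [17]),
    (88, [0, 1, 2, 8, 10, 11, 14, 15]),
    (71, [14, 16, 17]),
    (45, []),
    (48, [6, 2, 10, 16, 17]),
    (47, [4, 0, 10, 16, 17]),
    (109, [2, 6, 2, 14, 17]),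
    (91, [8, 12, 16]),
    (93, [9, 13]),
    (50, []),
    (51, []),
    (52, []),
    (111, [0, 12, 14]),
    (82, [1, 10, 16]),
    (107, [1, 5, 1, 8, 9, 12, 13, 16, 17]),
    (57, []),
    (58, [2, 6, 2, 8, 16, 17]),
    (60, [6, 1, 2, 9]),
    (59, [4, 0, 1]),
    (70, [0, 1, 2, 9, 10, 12, 13, 17]),
    (117, [2, 6, 2, 11, 17]),
    (102, [5, 1, 3, 16]),
    (76, [8, 12, 16]),
    (104, [5, 1, 3]),
    (77, [9, 13]),
    (64, [0, 8, 11, 17]),
    (65, []),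
    (66, []),
    (97, [1, 10, 16]),
    (68, [16, 17]),
    (69, [17]),
    (122, [0, 8, 11, 17]),
    (101, [1, 10, 17]),
    (90, [1, 5, 10, 16]),
    (103, [1, 10, 16, 17]),
    (92, [1, 5, 10]),
    (105, [1, 10, 17]),
    (106, [1, 10, 16, 17]),
    (83, [1, 5, 0, 1, 2, 8, 11, 12, 13, 16, 17]),
    (127, [0, 8, 14, 15, 16]),
    (75, [2, 6, 2, 12, 17]),
    (119, [11, 14, 16]),
    (81, [0, 12, 14]),
    (112, [1, 10, 16]),
    (116, [5, 1, 3, 16]),
    (121, [6, 1, 5, 1, 3, 9, 13, 16]),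
    (120, [4, 1, 5, 1, 3, 8, 12, 16]),
    (113, [1, 5, 10, 16]),
    (89, [2, 6, 2, 8, 16, 17]),
    (129, [5, 1, 3, 8, 11, 12, 14, 16]),
    (110, [11, 14, 16]),
    (115, [1, 5, 0, 4, 8, 12, 16]),
    (114, [1, 5, 2, 6, 9, 13]),
    (100, [0, 8, 11, 17]),
    (123, [1, 10, 17]),
    (124, [1, 10, 16, 17]),
    (125, [1, 10, 17]),
    (126, [1, 10, 16, 17]),
    (108, [0, 8, 14, 15, 16]),
    (128, [1, 8, 10, 12, 15, 17]),
    (118, [1, 5, 0, 8, 10, 11, 12, 16]),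
    (130, [1, 8, 10, 12, 15, 16, 17]),
    (132, [2, 6, 1, 5, 1, 9, 12]),
    (131, [1, 5, 2, 6, 2, 9, 14, 17]),
    (133, [1, 10]),
    (134, [1, 10])]

/-- A row of a coset table. -/
def coset4_2 : List (ℕ × List ℕ) :=
   [(0, [2]),
    (1, [2, 17]),
    (2, [2]),
    (3, [2, 17]),
    (4, [2]),
    (5, [9]),
    (6, [2, 16, 17]),
    (15, []),
    (8, [13, 17]),
    (9, [2, 16]),
    (20, []),
    (11, [9, 16]),
    (23, []),
    (13, [2, 17]),
    (25, []),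
    (7, []),
    (16, [13, 16, 17]),
    (29, []),
    (18, [2]),
    (31, []),
    (10, []),
    (21, [9]),
    (34, []),
    (12, []),
    (36, []),
    (14, []),
    (38, []),
    (27, [13, 17]),
    (44, []),
    (17, []),
    (46, []),
    (19, []),
    (48, []),
    (53, []),
    (22, []),
    (41, [2, 9, 16, 17]),
    (24, []),
    (58, []),
    (26, []),
    (54, [2, 9, 16, 17]),
    (64, []),
    (35, [2, 9, 16, 17]),
    (60, [17]),
    (71, []),
    (28, []),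
    (51, [2, 13, 16, 17]),
    (30, []),
    (75, []),
    (32, []),
    (72, [2, 13, 16, 17]),
    (81, []),
    (45, [2, 13, 16, 17]),
    (77, [17]),
    (33, []),
    (39, [2, 9, 16, 17]),
    (62, [6, 1, 2, 9]),
    (56, [4, 1, 9, 16, 17]),
    (66, [2, 9, 16]),
    (37, []),
    (89, [17]),
    (42, [17]),
    (61, [0, 8, 11, 17]),
    (55, [2, 6, 9, 16]),
    (84, [2, 9, 16]),
    (40, []),
    (100, [17]),
    (57, [2, 9, 16]),
    (92, []),
    (108, []),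
    (70, [0, 12, 14, 16]),
    (69, [0, 12, 14, 16]),
    (43, []),
    (49, [2, 13, 16, 17]),
    (79, [6, 2, 10, 16, 17]),
    (74, [4, 10, 13, 16]),
    (47, []),
    (110, [17]),
    (52, [17]),
    (78, [0, 12, 14]),
    (73, [2, 6, 13, 16, 17]),
    (88, [2, 13, 16, 17]),
    (50, []),
    (104, [5, 1, 3, 9, 13]),
    (103, [5, 1, 3, 9, 13, 17]),
    (63, [2, 9, 16]),
    (85, [0, 8, 11, 17]),
    (96, [6, 1, 2, 9, 17]),
    (87, [4, 1, 9, 16]),
    (80, [2, 13, 16, 17]),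
    (59, [17]),
    (118, []),
    (91, [0, 12, 14, 16]),
    (67, []),
    (99, [1, 10, 16]),
    (94, [0, 8, 11, 17]),
    (95, [0, 8, 11]),
    (86, [2, 6, 9, 16, 17]),
    (116, [2, 9, 16, 17]),
    (98, [0, 8, 14, 15, 17]),
    (93, [1, 10, 16]),
    (65, [17]),
    (128, []),
    (129, [17]),
    (83, [1, 5, 2, 9, 10, 13, 17]),
    (82, [1, 5, 2, 9, 10, 13]),
    (130, []),
    (107, [0, 12, 14, 16, 17]),
    (106, [0, 12, 14, 16, 17]),
    (68, []),
    (109, [0, 12, 14]),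
    (76, [17]),
    (111, [0, 12, 14]),
    (113, [1, 5, 2, 10, 17]),
    (112, [5, 1, 2, 3, 9]),
    (124, [6, 1, 5, 1, 3, 9, 13, 16]),
    (115, [4, 5, 4, 2, 16]),
    (97, [2, 9, 16, 17]),
    (117, [0, 8, 11]),
    (90, []),
    (119, [0, 12, 14, 16]),
    (120, [0, 12, 14, 16, 17]),
    (126, [1, 10, 16, 17]),
    (122, [0, 8, 11]),
    (123, [0, 8, 11, 17]),
    (114, [1, 5, 2, 6, 9, 13]),
    (125, [0, 8, 14, 15]),
    (121, [1, 10, 16, 17]),
    (127, [0, 8, 14, 15, 17]),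
    (101, []),
    (102, [17]),
    (105, []),
    (131, [0, 8, 11, 16]),
    (132, [0, 12, 14, 16, 17]),
    (133, [0, 8, 11, 17]),
    (134, [0, 8, 14, 15])]

/-- A row of a coset table. -/
def coset4_3 : List (ℕ × List ℕ) :=
   [(0, [3]),
    (2, []),
    (1, []),
    (4, []),
    (3, []),
    (5, [1, 10, 16, 17]),
    (9, [16, 17]),
    (10, [17]),
    (8, [1, 10, 16, 17]),
    (6, [16, 17]),
    (7, [17]),
    (11, [1, 10]),
    (12, [1, 10, 16]),
    (18, []),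
    (19, [16]),
    (20, []),
    (16, [1, 10]),
    (17, [1, 10, 16]),
    (13, []),
    (14, [16]),
    (15, []),
    (21, [1, 10, 16, 17]),
    (22, [1, 10, 17]),
    (23, [1, 10, 16, 17]),
    (30, [17]),
    (31, [16, 17]),
    (32, [16]),
    (27, [1, 10, 16, 17]),
    (28, [1, 10, 17]),
    (29, [1, 10, 16, 17]),
    (24, [17]),
    (25, [16, 17]),
    (26, [16]),
    (33, [1, 10, 16]),
    (34, [1, 10]),
    (35, [1, 10, 17]),
    (46, []),
    (47, [17]),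
    (48, [16, 17]),
    (49, [1, 10, 16, 17]),
    (40, [1, 8, 10, 12, 16]),
    (41, [1, 9, 10, 13]),
    (67, []),
    (43, [1, 10, 16]),
    (44, [1, 10]),
    (45, [1, 10, 17]),
    (36, []),
    (37, [17]),
    (38, [16, 17]),
    (39, [1, 10, 16, 17]),
    (50, [1, 8, 10, 12, 16]),
    (51, [1, 9, 10, 13]),
    (82, []),
    (53, [1, 10, 16, 17]),
    (72, [1, 10, 16, 17]),
    (55, [1, 10, 16]),
    (56, [1, 10]),
    (83, [1, 5, 10, 16]),
    (75, []),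
    (90, []),
    (92, []),
    (61, [8, 12, 16, 17]),
    (62, [9, 13, 17]),
    (97, []),
    (64, [1, 8, 10, 12, 16, 17]),
    (101, []),
    (103, []),
    (42, []),
    (105, []),
    (106, []),
    (107, []),
    (71, [1, 10, 16, 17]),
    (54, [1, 10, 16, 17]),
    (73, [1, 10, 16]),
    (74, [1, 10]),
    (58, []),
    (102, [5, 1, 3, 8, 12]),
    (104, [5, 1, 3, 9, 13]),
    (78, [8, 12, 16, 17]),
    (79, [9, 13, 17]),
    (112, []),
    (81, [1, 8, 10, 12, 16, 17]),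
    (52, []),
    (57, [5, 1, 3, 16]),
    (116, []),
    (85, [8, 12, 16, 17]),
    (114, [1, 5, 10, 16]),
    (115, [1, 5, 10, 16]),
    (113, [1, 5, 10, 16]),
    (118, []),
    (59, []),
    (120, []),
    (60, []),
    (121, []),
    (94, [15]),
    (123, []),
    (124, []),
    (63, []),
    (125, []),
    (126, []),
    (128, []),
    (65, []),
    (76, [1, 5, 0, 8, 10, 12]),
    (66, []),
    (77, [1, 5, 2, 9, 10, 13]),
    (68, []),
    (69, []),
    (70, []),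
    (130, [17]),
    (109, [8, 12, 16, 17]),
    (129, [5, 1, 3, 8, 12, 17]),
    (111, [15, 16]),
    (80, []),
    (88, [5, 1, 3, 16]),
    (86, [5, 1, 3, 16]),
    (87, [5, 1, 3, 16]),
    (84, []),
    (131, [1, 5, 1, 8, 12]),
    (89, []),
    (132, []),
    (91, []),
    (93, []),
    (133, []),
    (95, []),
    (96, []),
    (98, []),
    (99, []),
    (134, [8, 12, 15]),
    (100, []),
    (110, [1, 5, 0, 8, 10, 12, 17]),
    (108, [17]),
    (117, [1, 5, 0, 1, 8, 12, 16, 17]),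
    (119, []),
    (122, []),
    (127, [8, 12, 15])]

/-- A row of a coset table. -/
def coset4_4 : List (ℕ × List ℕ) :=
   [(0, [8]),
    (1, [8]),
    (2, [12, 16, 17]),
    (3, [0, 8, 16, 17]),
    (4, [0, 12, 16, 17]),
    (5, [0, 8, 16, 17]),
    (11, [0, 8, 16, 17]),
    (7, [0, 8, 16, 17]),
    (8, [0, 12, 16, 17]),
    (16, [0, 12, 16, 17]),
    (10, [0, 12, 16, 17]),
    (6, [0, 8, 16, 17]),
    (12, [0, 8, 16, 17]),
    (21, [0, 8, 16, 17]),
    (22, [0, 8, 16, 17]),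
    (15, [11]),
    (9, [0, 12, 16, 17]),
    (17, [0, 12, 16, 17]),
    (27, [0, 12, 16, 17]),
    (28, [0, 12, 16, 17]),
    (20, [14, 17]),
    (13, [0, 8, 16, 17]),
    (14, [0, 8, 16, 17]),
    (23, [11, 16]),
    (33, [0, 8, 16, 17]),
    (25, [2, 9, 11, 16, 17]),
    (40, []),
    (18, [0, 12, 16, 17]),
    (19, [0, 12, 16, 17]),
    (29, [14, 16, 17]),
    (43, [0, 12, 16, 17]),
    (31, [2, 13, 14, 16]),
    (50, []),
    (24, [0, 8, 16, 17]),
    (34, [2, 9, 11, 17]),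
    (37, [0, 8, 17]),
    (36, [2, 9, 11, 16, 17]),
    (35, [0, 8, 17]),
    (58, [2, 9, 11, 16, 17]),
    (61, []),
    (26, []),
    (64, [0, 8, 11, 16, 17]),
    (65, []),
    (30, [0, 12, 16, 17]),
    (44, [2, 13, 14]),
    (47, [0, 12, 17]),
    (46, [2, 13, 14, 16]),
    (45, [0, 12, 17]),
    (75, [2, 13, 14, 16]),
    (78, []),
    (32, []),
    (81, [0, 12, 14, 16]),
    (68, [1, 8, 10, 12, 16, 17]),
    (53, [2, 9, 11, 17]),
    (56, [0, 4, 0, 17]),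
    (85, []),
    (54, [0, 4, 0, 17]),
    (59, [0, 8, 17]),
    (38, [2, 9, 11, 16, 17]),
    (57, [0, 8, 17]),
    (89, [2, 9, 11, 16, 17]),
    (39, []),
    (94, [16]),
    (95, []),
    (41, [0, 8, 11, 16, 17]),
    (42, []),
    (100, [0, 8, 11, 16, 17]),
    (82, [1, 8, 10, 12, 16, 17]),
    (52, [1, 8, 10, 12, 16, 17]),
    (108, [0, 9, 12, 13, 14]),
    (76, [1, 2, 8, 10, 11, 12, 15]),
    (71, [2, 13, 14]),
    (74, [0, 4, 0, 16]),
    (109, []),
    (72, [0, 4, 0, 16]),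
    (48, [2, 13, 14, 16]),
    (70, [1, 2, 8, 9, 10, 12, 13, 14, 16, 17]),
    (110, [2, 13, 14, 16]),
    (49, []),
    (111, [16]),
    (98, [1, 8, 10, 12]),
    (51, [0, 12, 14, 16]),
    (67, [1, 8, 10, 12, 16, 17]),
    (107, [5, 1, 2, 3, 8, 9, 12, 14, 15, 17]),
    (87, [0, 4, 0, 17]),
    (55, []),
    (117, []),
    (84, [0, 4, 0, 17]),
    (91, [0, 8, 16]),
    (60, [2, 9, 11, 16, 17]),
    (102, [5, 3]),
    (88, [0, 8, 16]),
    (92, [9, 11, 13, 14, 17]),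
    (119, [2, 9, 11]),
    (62, [16]),
    (63, []),
    (122, [16]),
    (112, [1, 8, 10, 12]),
    (80, [1, 8, 10, 12]),
    (127, [8, 9, 12, 13, 15, 17]),
    (66, [0, 8, 11, 16, 17]),
    (105, []),
    (90, [5, 3]),
    (103, [9, 13, 15, 17]),
    (104, [2, 9, 11, 16]),
    (101, []),
    (106, [9, 13, 15, 16, 17]),
    (83, [1, 5, 0, 2, 8, 10, 11, 12, 15]),
    (69, [0, 9, 11, 12, 13, 15, 16]),
    (73, []),
    (77, [2, 13, 14, 16]),
    (79, [16]),
    (97, [1, 8, 10, 12]),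
    (116, [1, 5, 0, 1, 8, 12]),
    (114, [5, 0, 3, 12, 16]),
    (120, [4, 5, 1, 8, 12, 16, 17]),
    (113, [1, 5, 1, 8, 12, 16, 17]),
    (86, []),
    (118, [9, 11, 13, 14, 17]),
    (93, [2, 9, 11]),
    (115, [1, 5, 0, 4, 1, 8, 10, 12]),
    (121, [9, 11, 13, 14, 16]),
    (96, [16]),
    (125, []),
    (124, [9, 13, 15, 16]),
    (123, []),
    (126, [9, 13, 15]),
    (99, [8, 9, 12, 13, 15, 16, 17]),
    (128, [9, 11, 13, 14]),
    (129, [2, 9, 11]),
    (130, [9, 11, 13, 14]),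
    (131, [5, 0, 3, 12, 16]),
    (132, [9, 11, 13, 14, 16]),
    (133, [9, 13, 15, 16]),
    (134, [9, 13, 15])]

/-- A row of a coset table. -/
def coset4_5 : List (ℕ × List ℕ) :=
   [(0, [9]),
    (1, [9]),
    (2, [13, 17]),
    (3, [2, 9, 17]),
    (4, [2, 13, 17]),
    (5, [2, 9, 17]),
    (6, [2, 9, 17]),
    (12, [2, 9, 16, 17]),
    (8, [2, 13, 17]),
    (9, [2, 13, 17]),
    (17, [2, 13, 16, 17]),
    (11, [2, 9, 17]),
    (7, [2, 9, 16, 17]),
    (13, [11, 16]),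
    (22, [2, 9, 16, 17]),
    (23, [2, 9, 16, 17]),
    (16, [2, 13, 17]),
    (10, [2, 13, 16, 17]),
    (18, [14, 16, 17]),
    (28, [2, 13, 16, 17]),
    (29, [2, 13, 16, 17]),
    (21, [11]),
    (14, [2, 9, 16, 17]),
    (15, [2, 9, 16, 17]),
    (24, [0, 8, 11, 16, 17]),
    (34, [2, 9, 16, 17]),
    (41, []),
    (27, [14, 17]),
    (19, [2, 13, 16, 17]),
    (20, [2, 13, 16, 17]),
    (30, [0, 12, 14, 16]),
    (44, [2, 13, 16, 17]),
    (51, []),
    (33, [0, 8, 11, 17]),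
    (25, [2, 9, 16, 17]),
    (38, [2, 9, 16, 17]),
    (36, [0, 8, 11, 16, 17]),
    (58, [0, 8, 11, 16, 17]),
    (35, [2, 9, 16, 17]),
    (62, []),
    (64, [0, 8, 11, 17]),
    (26, []),
    (66, []),
    (43, [0, 12, 14]),
    (31, [2, 13, 16, 17]),
    (48, [2, 13, 16, 17]),
    (46, [0, 12, 14, 16]),
    (75, [0, 12, 14, 16]),
    (45, [2, 13, 16, 17]),
    (79, []),
    (81, [0, 12, 14]),
    (32, []),
    (69, [1, 9, 10, 13, 16, 17]),
    (53, [0, 8, 11, 17]),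
    (55, [2, 6, 2, 17]),
    (54, [2, 6, 2, 17]),
    (85, [2, 6, 0, 4, 0, 2]),
    (60, [2, 9, 16, 17]),
    (37, [0, 8, 11, 16, 17]),
    (89, [0, 8, 11, 16, 17]),
    (57, [2, 9, 16, 17]),
    (94, []),
    (39, []),
    (96, []),
    (40, [0, 8, 11, 17]),
    (100, [0, 8, 11, 17]),
    (42, []),
    (82, [1, 9, 10, 13, 16, 17]),
    (108, [0, 8, 14, 15, 17]),
    (52, [1, 9, 10, 13, 16, 17]),
    (77, [0, 1, 8, 9, 10, 11, 13, 15, 16]),
    (71, [0, 12, 14]),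
    (73, [2, 6, 2]),
    (72, [2, 6, 2]),
    (109, [2, 6, 0, 4, 0, 2, 16]),
    (47, [0, 12, 14, 16]),
    (110, [0, 12, 14, 16]),
    (70, [0, 1, 9, 10, 12, 13, 14, 17]),
    (111, []),
    (49, []),
    (99, [1, 9, 10, 13, 16]),
    (50, [0, 12, 14]),
    (67, [1, 9, 10, 13, 16, 17]),
    (107, [5, 0, 1, 3, 9, 12, 13, 14]),
    (86, [2, 6, 2, 17]),
    (56, [2, 6, 0, 4, 0, 2, 16]),
    (84, [2, 6, 2, 17]),
    (117, [2, 6, 0, 4, 0, 2]),
    (93, [2, 9, 16]),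
    (59, [0, 8, 11, 16, 17]),
    (90, [8, 11, 12, 14, 17]),
    (119, [0, 8, 11, 16]),
    (104, [5, 3, 16]),
    (88, [2, 9, 16]),
    (61, []),
    (122, []),
    (63, []),
    (112, [1, 9, 10, 13, 16]),
    (127, []),
    (80, [1, 9, 10, 13, 16]),
    (65, [0, 8, 11, 17]),
    (101, [8, 12, 15, 16, 17]),
    (102, [0, 8, 11]),
    (106, []),
    (92, [5, 3, 16]),
    (105, [8, 12, 15, 17]),
    (103, []),
    (83, [1, 5, 0, 2, 9, 10, 11, 13, 15, 16]),
    (68, [0, 8, 14, 15, 17]),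
    (74, [2, 6, 0, 4, 0, 2]),
    (76, [0, 12, 14, 16]),
    (78, []),
    (97, [1, 9, 10, 13, 16]),
    (116, [1, 5, 1, 2, 13]),
    (121, [6, 5, 1, 9, 13, 17]),
    (115, [5, 2, 3, 13]),
    (113, [1, 5, 1, 9, 13, 17]),
    (87, [2, 6, 0, 4, 0, 2, 16]),
    (118, [8, 11, 12, 14, 17]),
    (91, [0, 8, 11, 16]),
    (120, [8, 11, 12, 14]),
    (114, [1, 5, 2, 6, 1, 9, 10, 13, 16]),
    (95, []),
    (123, [8, 12, 15, 16]),
    (126, []),
    (125, [8, 12, 15]),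
    (124, []),
    (98, []),
    (128, [8, 12, 15, 16, 17]),
    (129, [0, 8, 11]),
    (130, [8, 12, 15, 17]),
    (131, [0, 11, 12, 15, 16]),
    (132, [8, 11, 12, 14]),
    (133, [8, 12, 15, 16]),
    (134, [8, 12, 15])]

/-- A row of a coset table. -/
def coset4_6 : List (ℕ × List ℕ) :=
   [(0, [10]),
    (1, [1, 10, 16, 17]),
    (2, [1, 10, 16, 17]),
    (4, [1, 10, 16, 17]),
    (3, [1, 10, 16, 17]),
    (8, [1, 10, 16, 17]),
    (9, [1, 10, 16, 17]),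
    (10, [1, 10, 16, 17]),
    (5, [1, 10, 16, 17]),
    (6, [1, 10, 16, 17]),
    (7, [1, 10, 16, 17]),
    (16, [1, 10, 16, 17]),
    (17, [1, 10, 16, 17]),
    (13, [8, 12]),
    (19, [1, 10, 16, 17]),
    (15, [9, 13]),
    (11, [1, 10, 16, 17]),
    (12, [1, 10, 16, 17]),
    (18, [8, 12]),
    (14, [1, 10, 16, 17]),
    (20, [9, 13]),
    (21, [8, 12, 16, 17]),
    (28, [1, 10, 16, 17]),
    (23, [9, 13, 17]),
    (24, [8, 12]),
    (25, [9, 13]),
    (26, [1, 10, 17]),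
    (27, [8, 12, 16, 17]),
    (22, [1, 10, 16, 17]),
    (29, [9, 13, 17]),
    (30, [8, 12]),
    (31, [9, 13]),
    (32, [1, 10, 17]),
    (33, [8, 12, 16, 17]),
    (34, [9, 13, 17]),
    (45, [16]),
    (36, [11, 14, 17]),
    (47, [8, 12, 17]),
    (48, [9, 13, 16, 17]),
    (39, [1, 10, 17]),
    (40, [1, 10, 16]),
    (41, [1, 10]),
    (63, [1, 10, 16]),
    (43, [8, 12, 16, 17]),
    (44, [9, 13, 17]),
    (35, [16]),
    (46, [11, 14, 17]),
    (37, [8, 12, 17]),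
    (38, [9, 13, 16, 17]),
    (49, [1, 10, 17]),
    (50, [1, 10, 16]),
    (51, [1, 10]),
    (80, [1, 10, 16]),
    (53, [15]),
    (72, [16]),
    (73, [16]),
    (74, [16]),
    (88, []),
    (75, [11, 14, 17]),
    (91, []),
    (93, []),
    (61, [1, 10, 16]),
    (62, [1, 10]),
    (42, [1, 10, 16]),
    (64, [1, 8, 10, 12, 15, 16]),
    (95, [1, 10, 17]),
    (96, [1, 10, 16, 17]),
    (97, [1, 10, 16]),
    (98, [1, 10, 16]),
    (99, [1, 10, 16]),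
    (84, [0, 1, 2, 8, 10, 11, 14, 15]),
    (71, [15, 16]),
    (54, [16]),
    (55, [16]),
    (56, [16]),
    (58, [11, 14, 17]),
    (87, [0, 4, 12, 16]),
    (86, [2, 6, 13, 16]),
    (78, [1, 10, 16]),
    (79, [1, 10]),
    (52, [1, 10, 16]),
    (81, [1, 8, 10, 12, 15]),
    (112, [1, 10, 16]),
    (113, []),
    (70, [0, 1, 2, 9, 10, 12, 13, 17]),
    (109, [17]),
    (77, [6, 2, 10, 16]),
    (76, [4, 0, 10, 16]),
    (57, []),
    (119, []),
    (120, []),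
    (59, []),
    (121, []),
    (60, []),
    (94, [1, 10, 16, 17]),
    (65, [1, 10, 17]),
    (66, [1, 10, 16, 17]),
    (67, [1, 10, 16]),
    (68, [1, 10, 16]),
    (69, [1, 10, 16]),
    (122, [0, 1, 10, 11, 12]),
    (123, [1, 10, 17]),
    (115, [0, 4, 1, 5, 0, 4, 0, 10, 12]),
    (124, [1, 10, 16, 17]),
    (114, [1, 5, 2, 6, 1, 5, 2, 9, 10, 13]),
    (125, [1, 10, 16]),
    (126, [1, 10, 16]),
    (116, [0, 1, 2, 8, 10, 11, 14, 15]),
    (127, [0, 1, 10, 12, 14, 15, 16]),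
    (85, [17]),
    (117, [2, 6, 2, 14, 16, 17]),
    (111, [1, 10, 16, 17]),
    (82, [1, 10, 16]),
    (83, []),
    (104, [5, 6, 5, 1, 3, 9, 10, 13, 16]),
    (102, [0, 4, 5, 0, 4, 0, 1, 3, 8, 10, 12]),
    (107, [0, 1, 2, 9, 10, 12, 13, 17]),
    (110, [2, 6, 2, 12, 16, 17]),
    (132, []),
    (89, []),
    (90, []),
    (92, []),
    (100, [0, 1, 8, 10, 11, 15, 17]),
    (101, [1, 10, 17]),
    (103, [1, 10, 16, 17]),
    (105, [1, 10, 16]),
    (106, [1, 10, 16]),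
    (108, [0, 1, 8, 10, 14]),
    (133, [0, 1, 10, 11, 12]),
    (131, [1, 5, 2, 6, 1, 5, 0, 2, 8, 10, 11, 12, 15, 16]),
    (134, [0, 1, 8, 10, 14, 17]),
    (129, [5, 2, 6, 1, 5, 0, 1, 2, 8, 9, 10, 11, 12, 15]),
    (118, []),
    (128, [0, 1, 8, 10, 11, 15, 17]),
    (130, [0, 1, 10, 12, 14, 15, 16, 17])]

/-- A row of a coset table. -/
def coset4_7 : List (ℕ × List ℕ) :=
   [(0, [11]),
    (1, [11]),
    (2, [14, 17]),
    (3, [11, 16]),
    (4, [14, 16, 17]),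
    (5, [11]),
    (6, [2, 9, 11, 17]),
    (7, [0, 8, 11, 16, 17]),
    (8, [14, 17]),
    (9, [2, 13, 14]),
    (10, [0, 12, 14, 16]),
    (11, [2, 9, 11, 16, 17]),
    (12, [0, 8, 11, 17]),
    (13, [2, 9, 11, 17]),
    (22, [0, 2, 8, 9]),
    (15, [0, 8, 11, 16, 17]),
    (16, [2, 13, 14, 16]),
    (17, [0, 12, 14]),
    (18, [2, 13, 14]),
    (28, [0, 2, 12, 13]),
    (20, [0, 12, 14, 16]),
    (21, [2, 9, 11, 16, 17]),
    (14, [0, 2, 8, 9, 16]),
    (23, [0, 8, 11, 17]),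
    (33, [0, 2, 8, 9]),
    (34, [0, 2, 8, 9]),
    (35, [0, 2, 8, 9, 16]),
    (27, [2, 13, 14, 16]),
    (19, [0, 2, 12, 13, 16]),
    (29, [0, 12, 14]),
    (43, [0, 2, 12, 13]),
    (44, [0, 2, 12, 13]),
    (45, [0, 2, 12, 13, 16]),
    (24, [0, 2, 8, 9, 16]),
    (25, [0, 2, 8, 9, 16]),
    (26, [0, 2, 8, 9]),
    (53, [0, 2, 8, 9]),
    (40, [2, 9, 11, 16, 17]),
    (41, [0, 8, 11, 16, 17]),
    (54, [0, 2, 8, 9]),
    (37, [2, 9, 11, 16, 17]),
    (38, [0, 8, 11, 16, 17]),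
    (57, [0, 2, 8, 9, 16]),
    (30, [0, 2, 12, 13, 16]),
    (31, [0, 2, 12, 13, 16]),
    (32, [0, 2, 12, 13]),
    (71, [0, 2, 12, 13]),
    (50, [2, 13, 14, 16]),
    (51, [0, 12, 14, 16]),
    (72, [0, 2, 12, 13]),
    (47, [2, 13, 14, 16]),
    (48, [0, 12, 14, 16]),
    (70, [1, 8, 9, 10, 11, 12, 13, 14, 15, 17]),
    (36, [0, 2, 8, 9, 16]),
    (39, [0, 2, 8, 9, 16]),
    (62, [6, 0, 1, 2, 9, 11, 16, 17]),
    (61, [4, 0, 1, 2, 9, 11, 17]),
    (42, [0, 2, 8, 9]),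
    (64, [2, 9, 11, 16, 17]),
    (65, [2, 9, 11, 16, 17]),
    (66, [0, 8, 11, 16, 17]),
    (56, [0, 4, 2, 8, 9, 17]),
    (55, [2, 6, 0, 8, 9, 16, 17]),
    (84, [0, 2, 8, 9]),
    (58, [2, 9, 11, 16, 17]),
    (59, [2, 9, 11, 16, 17]),
    (60, [0, 8, 11, 16, 17]),
    (82, [1, 8, 9, 10, 11, 12, 13, 14, 15, 17]),
    (76, [1, 2, 8, 9, 10, 12, 13, 14, 16]),
    (77, [0, 1, 9, 10, 12, 13, 14]),
    (52, [1, 8, 9, 10, 11, 12, 13, 14, 15, 17]),
    (46, [0, 2, 12, 13, 16]),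
    (49, [0, 2, 12, 13, 16]),
    (79, [6, 0, 2, 10, 14, 16]),
    (78, [4, 0, 2, 10, 14, 16]),
    (81, [2, 13, 14, 16]),
    (68, [1, 2, 8, 10, 11, 12, 15, 17]),
    (69, [0, 1, 8, 9, 10, 11, 13, 15, 16, 17]),
    (74, [0, 4, 2, 12, 13, 16]),
    (73, [2, 6, 0, 12, 13, 16]),
    (88, [0, 2, 12, 13, 17]),
    (75, [2, 13, 14, 16]),
    (67, [1, 8, 9, 10, 11, 12, 13, 14, 15, 17]),
    (107, [5, 1, 3, 8, 9, 11, 12, 13, 14, 15, 16, 17]),
    (63, [0, 2, 8, 9, 16]),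
    (94, [6, 0, 1, 2, 9, 11, 17]),
    (96, [6, 0, 1, 2, 9, 11, 16, 17]),
    (95, [4, 0, 1, 2, 9, 11, 17]),
    (80, [0, 2, 12, 13, 16, 17]),
    (100, [2, 9, 11, 16, 17]),
    (102, [5, 3, 9, 11, 13, 14, 17]),
    (98, [1, 2, 10, 11, 15, 17]),
    (104, [5, 3, 8, 11, 12, 14, 17]),
    (99, [0, 1, 8, 10, 11, 15, 17]),
    (85, [2, 6, 0, 8, 9, 17]),
    (87, [0, 4, 2, 8, 9, 17]),
    (86, [2, 6, 0, 8, 9, 16, 17]),
    (97, [11, 14, 15]),
    (91, [1, 2, 9, 10, 11, 13, 16]),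
    (93, [0, 1, 10, 11, 12]),
    (89, [2, 9, 11, 16, 17]),
    (105, [9, 11, 13, 14]),
    (90, [5, 2, 3, 9, 11, 17]),
    (106, [8, 11, 12, 14]),
    (92, [5, 0, 3, 8, 11, 17]),
    (101, [9, 11, 13, 14]),
    (103, [8, 11, 12, 14]),
    (83, [1, 5, 0, 2, 8, 9, 10, 12, 13, 14, 16, 17]),
    (110, [1, 2, 8, 9, 10, 12, 13, 14, 16, 17]),
    (111, [6, 0, 2, 10, 14]),
    (108, [1, 2, 8, 10, 11, 12, 15]),
    (109, [2, 6, 0, 12, 13]),
    (112, [11, 14, 15, 16]),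
    (113, [11, 14, 15, 16]),
    (114, [0, 12, 14, 16, 17]),
    (115, [2, 13, 14, 16, 17]),
    (116, [11, 14, 15]),
    (122, [6, 0, 1, 2, 9, 11, 17]),
    (129, [5, 3, 9, 11, 13, 14]),
    (127, [0, 1, 2, 10, 11, 12, 16]),
    (120, [11, 14, 15, 16, 17]),
    (121, [11, 14, 15, 17]),
    (117, [2, 6, 0, 8, 9, 17]),
    (123, [11, 14, 15, 17]),
    (124, [11, 14, 15, 16, 17]),
    (125, [11, 14, 15, 17]),
    (126, [11, 14, 15, 16, 17]),
    (119, [0, 1, 2, 8, 9, 10, 11, 13, 16]),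
    (130, [9, 11, 13, 14]),
    (118, [5, 2, 3, 9, 11]),
    (128, [9, 11, 13, 14]),
    (131, [0, 12, 14, 16]),
    (132, [11, 14, 15]),
    (133, [11, 14, 15, 16]),
    (134, [11, 14, 15, 16])]

/-- A row of a coset table. -/
def coset4_8 : List (ℕ × List ℕ) :=
   [(0, [12]),
    (1, [8, 12, 16, 17]),
    (2, [8, 12, 16, 17]),
    (3, [8, 12]),
    (4, [8, 12]),
    (5, [8, 12, 16, 17]),
    (9, [1, 8, 10, 12, 16, 17]),
    (7, [8, 12]),
    (8, [8, 12, 16, 17]),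
    (6, [1, 8, 10, 12, 16, 17]),
    (10, [8, 12]),
    (16, [1, 8, 10, 12]),
    (12, [8, 12, 16, 17]),
    (18, [1, 8, 10, 12, 16, 17]),
    (19, [1, 8, 10, 12, 16, 17]),
    (15, [11, 14, 17]),
    (11, [1, 8, 10, 12]),
    (17, [8, 12, 16, 17]),
    (13, [1, 8, 10, 12, 16, 17]),
    (14, [1, 8, 10, 12, 16, 17]),
    (20, [11, 14, 17]),
    (27, [1, 8, 10, 12]),
    (28, [1, 8, 10, 12]),
    (23, [15]),
    (30, [1, 8, 10, 12, 16, 17]),
    (25, [9, 11, 13, 14, 17]),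
    (32, [1, 8, 10, 12]),
    (21, [1, 8, 10, 12]),
    (22, [1, 8, 10, 12]),
    (29, [15, 16]),
    (24, [1, 8, 10, 12, 16, 17]),
    (31, [9, 11, 13, 14, 17]),
    (26, [1, 8, 10, 12]),
    (43, [1, 8, 10, 12]),
    (34, [9, 13, 15, 16]),
    (45, [1, 8, 10, 12, 16, 17]),
    (36, [9, 11, 13, 14, 17]),
    (47, [1, 8, 10, 12]),
    (38, [9, 11, 13, 14, 16]),
    (49, [1, 8, 10, 12, 16, 17]),
    (50, [1, 8, 10, 12]),
    (41, [9, 13, 15, 16]),
    (68, []),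
    (33, [1, 8, 10, 12]),
    (44, [9, 13, 15]),
    (35, [1, 8, 10, 12, 16, 17]),
    (46, [9, 11, 13, 14, 17]),
    (37, [1, 8, 10, 12]),
    (48, [9, 11, 13, 14, 16]),
    (39, [1, 8, 10, 12, 16, 17]),
    (40, [1, 8, 10, 12]),
    (51, [9, 13, 15]),
    (65, [1, 8, 10, 12, 16, 17]),
    (53, [9, 13, 15, 16]),
    (72, [1, 8, 10, 12]),
    (55, [1, 8, 10, 12, 16]),
    (74, [1, 8, 10, 12, 16, 17]),
    (76, [0, 1, 8, 10, 16]),
    (58, [9, 11, 13, 14, 16]),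
    (70, [2, 13, 14, 16, 17]),
    (89, [2, 13, 14, 16]),
    (78, [1, 8, 10, 12, 16, 17]),
    (62, [9, 13, 15, 17]),
    (98, []),
    (64, [9, 11, 13, 14, 16, 17]),
    (52, [1, 8, 10, 12, 16, 17]),
    (100, [0, 8, 9, 11, 13, 15, 16]),
    (105, []),
    (42, []),
    (108, [0, 12, 14, 16, 17]),
    (59, [2, 13, 14, 16, 17]),
    (71, [9, 13, 15]),
    (54, [1, 8, 10, 12]),
    (73, [1, 8, 10, 12, 16]),
    (56, [1, 8, 10, 12, 16, 17]),
    (75, [9, 11, 13, 14, 16]),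
    (57, [0, 1, 10, 12, 16]),
    (110, [2, 9, 11, 16, 17]),
    (61, [1, 8, 10, 12, 16, 17]),
    (79, [9, 13, 15, 16, 17]),
    (95, [1, 8, 10, 12]),
    (81, [9, 11, 13, 14, 16, 17]),
    (101, [1, 8, 10, 12, 16, 17]),
    (102, [1, 8, 10, 12]),
    (91, [0, 1, 10, 12]),
    (85, [1, 8, 10, 12, 16]),
    (117, [1, 8, 10, 12, 17]),
    (88, [0, 4, 0, 1, 8, 10, 12, 16, 17]),
    (87, [0, 4, 0, 1, 8, 10, 12, 16, 17]),
    (60, [2, 13, 14, 16]),
    (107, [2, 13, 14, 16, 17]),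
    (84, [0, 1, 8, 10]),
    (118, [2, 13, 14, 16]),
    (119, [2, 13, 14, 16]),
    (94, [9, 13, 15, 17]),
    (80, [1, 8, 10, 12]),
    (122, [9, 13, 15]),
    (125, []),
    (63, []),
    (127, [8, 12, 15, 16]),
    (66, [0, 8, 9, 13, 14, 16, 17]),
    (82, [1, 8, 10, 12, 16, 17]),
    (83, [1, 8, 10, 12]),
    (128, [0, 8, 9, 11, 13, 15, 16]),
    (129, [0, 8, 9, 11, 13, 15, 17]),
    (67, []),
    (130, [0, 12, 14, 16]),
    (90, [2, 13, 14, 16, 17]),
    (69, [0, 12, 14, 16, 17]),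
    (109, [1, 8, 10, 12, 16]),
    (77, [2, 9, 11, 16, 17]),
    (111, [9, 13, 15, 16, 17]),
    (123, [1, 8, 10, 12]),
    (115, [0, 4, 1, 5, 0, 4, 0, 1, 8]),
    (131, []),
    (113, [0, 4, 1, 5, 0, 4, 0, 1, 8]),
    (120, [0, 1, 10, 12]),
    (86, [1, 8, 10, 12, 17]),
    (92, [2, 13, 14, 16]),
    (93, [2, 13, 14, 16]),
    (116, [0, 1, 8, 10]),
    (132, [2, 13, 14, 16]),
    (96, [9, 13, 15]),
    (112, [1, 8, 10, 12]),
    (133, [9, 13, 15]),
    (97, []),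
    (134, [16]),
    (99, [8, 12, 15, 16]),
    (103, [0, 8, 9, 13, 14, 16, 17]),
    (104, [0, 8, 9, 13, 14]),
    (106, [0, 12, 14, 16]),
    (114, []),
    (121, [2, 13, 14, 16]),
    (124, [9, 13, 15]),
    (126, [16])]

/-- A row of a coset table. -/
def coset4_9 : List (ℕ × List ℕ) :=
   [(0, [13]),
    (1, [9, 13, 17]),
    (2, [9, 13, 17]),
    (3, [9, 13]),
    (4, [9, 13]),
    (5, [9, 13, 17]),
    (6, [9, 13]),
    (10, [1, 9, 10, 13, 16, 17]),
    (8, [9, 13, 17]),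
    (9, [9, 13]),
    (7, [1, 9, 10, 13, 16, 17]),
    (11, [9, 13, 17]),
    (17, [1, 9, 10, 13, 16]),
    (13, [11, 14, 17]),
    (19, [1, 9, 10, 13, 16, 17]),
    (20, [1, 9, 10, 13, 16, 17]),
    (16, [9, 13, 17]),
    (12, [1, 9, 10, 13, 16]),
    (18, [11, 14, 17]),
    (14, [1, 9, 10, 13, 16, 17]),
    (15, [1, 9, 10, 13, 16, 17]),
    (21, [15]),
    (28, [1, 9, 10, 13, 16]),
    (29, [1, 9, 10, 13, 16]),
    (24, [8, 11, 12, 14, 17]),
    (31, [1, 9, 10, 13, 16, 17]),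
    (32, [1, 9, 10, 13, 16]),
    (27, [15, 16]),
    (22, [1, 9, 10, 13, 16]),
    (23, [1, 9, 10, 13, 16]),
    (30, [8, 11, 12, 14, 17]),
    (25, [1, 9, 10, 13, 16, 17]),
    (26, [1, 9, 10, 13, 16]),
    (33, [8, 12, 15, 16]),
    (44, [1, 9, 10, 13, 16]),
    (45, [1, 9, 10, 13, 16, 17]),
    (36, [8, 11, 12, 14, 17]),
    (37, [8, 11, 12, 14]),
    (48, [1, 9, 10, 13, 16]),
    (49, [1, 9, 10, 13, 16, 17]),
    (40, [8, 12, 15, 16]),
    (51, [1, 9, 10, 13, 16]),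
    (69, []),
    (43, [8, 12, 15]),
    (34, [1, 9, 10, 13, 16]),
    (35, [1, 9, 10, 13, 16, 17]),
    (46, [8, 11, 12, 14, 17]),
    (47, [8, 11, 12, 14]),
    (38, [1, 9, 10, 13, 16]),
    (39, [1, 9, 10, 13, 16, 17]),
    (50, [8, 12, 15]),
    (41, [1, 9, 10, 13, 16]),
    (66, [1, 9, 10, 13, 16, 17]),
    (53, [8, 12, 15, 16]),
    (72, [1, 9, 10, 13, 16]),
    (73, [1, 9, 10, 13, 16, 17]),
    (56, [1, 9, 10, 13]),
    (77, [1, 2, 10]),
    (58, [8, 11, 12, 14]),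
    (89, [0, 12, 14, 16]),
    (70, [0, 12, 14, 16, 17]),
    (61, [8, 12, 15, 16, 17]),
    (79, [1, 9, 10, 13, 16, 17]),
    (99, []),
    (64, [8, 12, 15, 16]),
    (100, [0, 11, 12, 15, 16]),
    (52, [1, 9, 10, 13, 16, 17]),
    (106, []),
    (108, [0, 12, 14, 17]),
    (42, []),
    (60, [0, 12, 14, 16, 17]),
    (71, [8, 12, 15]),
    (54, [1, 9, 10, 13, 16]),
    (55, [1, 9, 10, 13, 16, 17]),
    (74, [1, 9, 10, 13]),
    (75, [8, 11, 12, 14]),
    (110, [0, 8, 11, 16, 17]),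
    (57, [1, 2, 9, 10, 13]),
    (78, [8, 12, 15, 17]),
    (62, [1, 9, 10, 13, 16, 17]),
    (96, [1, 9, 10, 13, 16]),
    (81, [8, 12, 15]),
    (103, [1, 9, 10, 13, 16, 17]),
    (104, [1, 9, 10, 13, 16]),
    (93, [1, 2, 9, 10, 13]),
    (85, [8, 11, 12, 14]),
    (88, [2, 6, 1, 2, 10, 13, 16, 17]),
    (117, [2, 6, 0, 4, 0, 1, 2, 10, 13, 17]),
    (86, [2, 6, 1, 2, 10, 13, 16, 17]),
    (59, [0, 12, 14, 16]),
    (118, [0, 12, 14, 16]),
    (119, [0, 12, 14, 16]),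
    (107, [0, 12, 14, 16, 17]),
    (84, [1, 2, 10]),
    (94, [8, 12, 15, 16, 17]),
    (122, [8, 12, 15, 16]),
    (80, [1, 9, 10, 13, 16]),
    (126, []),
    (127, [8, 12, 15]),
    (63, []),
    (65, [0, 11, 12, 15, 16]),
    (128, [0, 11, 12, 15, 16]),
    (129, [0, 11, 12, 15, 16, 17]),
    (82, [1, 9, 10, 13, 16, 17]),
    (83, [1, 9, 10, 13, 16]),
    (130, [0, 12, 14]),
    (67, []),
    (92, [0, 12, 14, 16, 17]),
    (68, [0, 12, 14, 17]),
    (109, [8, 11, 12, 14]),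
    (76, [0, 8, 11, 16, 17]),
    (111, [8, 12, 15, 17]),
    (124, [1, 9, 10, 13, 16]),
    (114, [1, 5, 2, 6, 1, 5, 1, 2, 9, 16]),
    (113, [1, 5, 2, 6, 1, 5, 1, 2, 9, 16]),
    (131, [1, 5, 2, 6, 0, 4, 1, 5, 1, 8, 9, 11]),
    (121, [1, 2, 9, 10, 13]),
    (87, [2, 6, 0, 4, 0, 2, 8, 11, 12, 14, 16, 17]),
    (90, [0, 12, 14, 16]),
    (91, [0, 12, 14, 16]),
    (132, [0, 12, 14, 16]),
    (116, [1, 2, 10]),
    (95, [8, 12, 15, 16]),
    (133, [8, 12, 15, 16]),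
    (112, [1, 9, 10, 13, 16]),
    (134, []),
    (97, []),
    (98, [8, 12, 15]),
    (101, [0, 11, 12, 15, 16]),
    (102, [0, 11, 12, 15, 16, 17]),
    (105, [0, 12, 14]),
    (115, [1, 5, 2, 6, 0, 4, 1, 5, 1, 8, 9, 11, 16]),
    (120, [0, 12, 14, 16]),
    (123, [8, 12, 15, 16]),
    (125, [])]

/-- A row of a coset table. -/
def coset4_10 : List (ℕ × List ℕ) :=
   [(0, [14]),
    (1, [11, 14, 17]),
    (2, [11, 14, 17]),
    (3, [11, 14, 17]),
    (4, [11, 14, 17]),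
    (5, [15]),
    (6, [9, 11, 13, 14, 17]),
    (7, [8, 11, 12, 14, 17]),
    (8, [15, 16]),
    (9, [9, 11, 13, 14, 17]),
    (10, [8, 11, 12, 14, 17]),
    (11, [9, 13, 15, 16]),
    (12, [8, 12, 15, 16]),
    (13, [9, 11, 13, 14, 17]),
    (19, [1, 8, 9, 10, 11, 12, 13, 14, 15]),
    (15, [8, 11, 12, 14, 17]),
    (16, [9, 13, 15]),
    (17, [8, 12, 15]),
    (18, [9, 11, 13, 14, 17]),
    (14, [1, 8, 9, 10, 11, 12, 13, 14, 15]),
    (20, [8, 11, 12, 14, 17]),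
    (21, [9, 13, 15, 16]),
    (28, [1, 8, 9, 10, 12, 13, 17]),
    (23, [8, 12, 15, 16]),
    (30, [1, 8, 9, 10, 11, 12, 13, 14, 15]),
    (31, [1, 8, 9, 10, 11, 12, 13, 14, 15]),
    (32, [1, 8, 9, 10, 11, 12, 13, 14, 15]),
    (27, [9, 13, 15]),
    (22, [1, 8, 9, 10, 12, 13, 16, 17]),
    (29, [8, 12, 15]),
    (24, [1, 8, 9, 10, 11, 12, 13, 14, 15]),
    (25, [1, 8, 9, 10, 11, 12, 13, 14, 15]),
    (26, [1, 8, 9, 10, 11, 12, 13, 14, 15]),
    (43, [1, 8, 9, 10, 12, 13, 17]),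
    (44, [1, 8, 9, 10, 12, 13, 17]),
    (45, [1, 8, 9, 10, 12, 13, 17]),
    (46, [1, 8, 9, 10, 11, 12, 13, 14, 15]),
    (47, [1, 8, 9, 10, 11, 12, 13, 14, 15]),
    (48, [1, 8, 9, 10, 11, 12, 13, 14, 15]),
    (39, [11, 14, 15, 17]),
    (50, [1, 8, 9, 10, 11, 12, 13, 14, 15, 17]),
    (51, [1, 8, 9, 10, 11, 12, 13, 14, 15, 16, 17]),
    (70, []),
    (33, [1, 8, 9, 10, 12, 13, 16, 17]),
    (34, [1, 8, 9, 10, 12, 13, 16, 17]),
    (35, [1, 8, 9, 10, 12, 13, 16, 17]),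
    (36, [1, 8, 9, 10, 11, 12, 13, 14, 15]),
    (37, [1, 8, 9, 10, 11, 12, 13, 14, 15]),
    (38, [1, 8, 9, 10, 11, 12, 13, 14, 15]),
    (49, [11, 14, 15, 16, 17]),
    (40, [1, 8, 9, 10, 11, 12, 13, 14, 15, 17]),
    (41, [1, 8, 9, 10, 11, 12, 13, 14, 15, 16, 17]),
    (57, [0, 1, 2, 9, 10, 11, 12, 13, 14, 15, 17]),
    (71, [1, 8, 9, 10, 12, 13, 17]),
    (54, [11, 14, 15, 17]),
    (55, [8, 12, 15, 16, 17]),
    (56, [9, 13, 15, 17]),
    (52, [0, 1, 2, 8, 10]),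
    (75, [1, 8, 9, 10, 11, 12, 13, 14, 15]),
    (68, [2, 13, 14, 16, 17]),
    (69, [0, 12, 14, 16, 17]),
    (61, [11, 14, 15]),
    (62, [11, 14, 15, 16]),
    (84, [0, 2, 8, 9, 11, 14, 15]),
    (81, [1, 8, 9, 10, 11, 12, 13, 14, 15, 17]),
    (76, [1, 2, 8, 10, 11, 12, 15, 17]),
    (77, [0, 1, 8, 9, 10, 11, 13, 15, 17]),
    (107, []),
    (59, [2, 13, 14, 16, 17]),
    (60, [0, 12, 14, 16, 17]),
    (42, []),
    (53, [1, 8, 9, 10, 12, 13, 16, 17]),
    (72, [11, 14, 15, 16, 17]),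
    (73, [8, 12, 15, 17]),
    (74, [9, 13, 15, 16, 17]),
    (58, [1, 8, 9, 10, 11, 12, 13, 14, 15]),
    (65, [1, 2, 8, 9, 10, 12, 13, 14, 16]),
    (66, [0, 1, 9, 10, 12, 13, 14, 16]),
    (78, [11, 14, 15, 16]),
    (79, [11, 14, 15]),
    (88, [0, 2, 11, 12, 13, 14, 15, 17]),
    (64, [1, 8, 9, 10, 11, 12, 13, 14, 15, 17]),
    (83, [1, 5, 0, 1, 2, 9, 11, 16]),
    (82, [1, 5, 0, 1, 2, 9, 11, 16]),
    (63, [0, 2, 8, 9, 11, 14, 15, 16]),
    (85, [8, 12, 15, 16]),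
    (96, [6, 0, 1, 2, 8, 9, 11, 12, 15, 16, 17]),
    (95, [4, 0, 1, 2, 11, 13, 15, 17]),
    (80, [0, 2, 11, 12, 13, 14, 15, 16, 17]),
    (108, [2, 13, 14, 16]),
    (105, [2, 13, 14, 16, 17]),
    (98, [1, 2, 10, 14, 16]),
    (106, [0, 12, 14, 16, 17]),
    (99, [0, 1, 8, 10, 14]),
    (94, [11, 14, 15, 16, 17]),
    (87, [0, 4, 2, 8, 9, 11, 14, 15]),
    (86, [2, 6, 0, 8, 9, 11, 14, 15]),
    (116, [0, 2, 8, 9, 11, 14, 15]),
    (91, [1, 2, 9, 10, 13, 14, 15]),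
    (93, [0, 1, 10, 12, 14, 15, 16]),
    (110, [1, 2, 8, 10, 11, 12, 15, 17]),
    (102, [5, 2, 3, 13, 14, 16, 17]),
    (101, [5, 2, 3, 13, 14, 16, 17]),
    (104, [5, 0, 3, 12, 14, 17]),
    (103, [5, 0, 3, 12, 14, 17]),
    (90, [2, 13, 14, 16, 17]),
    (92, [0, 12, 14, 16, 17]),
    (67, []),
    (89, [2, 13, 14, 16]),
    (109, [8, 12, 15]),
    (100, [1, 2, 8, 9, 10, 12, 13, 14, 16]),
    (111, [11, 14, 15, 17]),
    (113, [1, 5, 0, 2, 10, 11, 15, 16]),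
    (112, [5, 0, 1, 2, 3, 9, 11, 12, 14, 15]),
    (124, [6, 1, 5, 0, 1, 3, 9, 12, 13, 14, 17]),
    (123, [4, 1, 5, 1, 2, 3, 8, 9, 12, 14, 15, 16]),
    (97, [0, 2, 8, 9, 11, 14, 15, 16]),
    (122, [6, 0, 1, 2, 8, 9, 11, 12, 15]),
    (130, [2, 13, 14, 16, 17]),
    (127, [0, 1, 2, 10, 12, 14, 15, 16, 17]),
    (125, [1, 2, 10, 14, 16]),
    (126, [0, 1, 8, 10, 14]),
    (117, [2, 6, 0, 8, 9, 11, 14, 15, 16, 17]),
    (115, [1, 5, 0, 4, 2, 8, 9, 11, 12, 16, 17]),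
    (114, [1, 5, 2, 6, 0, 8, 9, 11, 13, 17]),
    (120, [1, 2, 9, 10, 13, 14, 15]),
    (121, [0, 1, 10, 12, 14, 15, 16]),
    (119, [0, 1, 2, 8, 9, 10, 13, 14, 15, 16, 17]),
    (129, [5, 2, 3, 13, 14, 16]),
    (128, [5, 2, 3, 13, 14, 16]),
    (118, [2, 13, 14, 16, 17]),
    (133, [6, 5, 0, 1, 2, 9, 11, 14, 16]),
    (134, [0, 1, 2, 8, 10, 11, 15, 16, 17]),
    (131, [1, 5, 2, 6, 0, 8, 11, 15, 17]),
    (132, [0, 1, 2, 9, 10, 12, 13, 14, 15])]

/-- A row of a coset table. -/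
def coset4_11 : List (ℕ × List ℕ) :=
   [(0, [15]),
    (1, [15, 16]),
    (2, [15]),
    (3, [11, 14, 15, 17]),
    (4, [11, 14, 15, 16, 17]),
    (5, [11, 14, 15, 17]),
    (6, [11, 14, 15]),
    (7, [11, 14, 15, 16]),
    (8, [11, 14, 15, 16, 17]),
    (9, [11, 14, 15, 16]),
    (10, [11, 14, 15]),
    (11, [11, 14, 15]),
    (12, [11, 14, 15, 16]),
    (13, [11, 14, 15, 17]),
    (14, [11, 14, 15, 16, 17]),
    (15, [11, 14, 15, 17]),
    (16, [11, 14, 15, 16]),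
    (17, [11, 14, 15]),
    (18, [11, 14, 15, 16, 17]),
    (19, [11, 14, 15, 17]),
    (20, [11, 14, 15, 16, 17]),
    (21, [11, 14, 15, 17]),
    (22, [11, 14, 15, 16, 17]),
    (23, [11, 14, 15, 17]),
    (24, [11, 14, 15, 16]),
    (25, [11, 14, 15]),
    (32, [1, 8, 9, 10, 12, 13, 16, 17]),
    (27, [11, 14, 15, 16, 17]),
    (28, [11, 14, 15, 17]),
    (29, [11, 14, 15, 16, 17]),
    (30, [11, 14, 15]),
    (31, [11, 14, 15, 16]),
    (26, [1, 8, 9, 10, 12, 13, 17]),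
    (33, [11, 14, 15, 16]),
    (34, [11, 14, 15]),
    (45, [1, 8, 9, 10, 11, 12, 13, 14, 15, 16]),
    (36, [11, 14, 15, 17]),
    (47, [1, 8, 9, 10, 12, 13, 16]),
    (48, [1, 8, 9, 10, 12, 13]),
    (49, [1, 8, 9, 10, 12, 13, 16, 17]),
    (50, [1, 8, 9, 10, 12, 13, 16, 17]),
    (51, [1, 8, 9, 10, 12, 13, 16, 17]),
    (52, [1, 8, 9, 10, 12, 13, 17]),
    (43, [11, 14, 15]),
    (44, [11, 14, 15, 16]),
    (35, [1, 8, 9, 10, 11, 12, 13, 14, 15, 16]),
    (46, [11, 14, 15, 16, 17]),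
    (37, [1, 8, 9, 10, 12, 13]),
    (38, [1, 8, 9, 10, 12, 13, 16]),
    (39, [1, 8, 9, 10, 12, 13, 17]),
    (40, [1, 8, 9, 10, 12, 13, 17]),
    (41, [1, 8, 9, 10, 12, 13, 17]),
    (42, [1, 8, 9, 10, 12, 13, 16, 17]),
    (53, [11, 14, 15, 17]),
    (72, [1, 8, 9, 10, 11, 12, 13, 14, 15, 16]),
    (73, [1, 8, 9, 10, 11, 12, 13, 14, 15, 16, 17]),
    (74, [1, 8, 9, 10, 11, 12, 13, 14, 15, 17]),
    (70, [0, 2, 8, 9, 11, 14, 15, 16]),
    (75, [1, 8, 9, 10, 12, 13, 17]),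
    (76, [1, 8, 9, 10, 12, 13]),
    (77, [1, 8, 9, 10, 12, 13, 16]),
    (78, [1, 8, 9, 10, 12, 13, 16, 17]),
    (79, [1, 8, 9, 10, 12, 13, 16, 17]),
    (80, [1, 8, 9, 10, 12, 13, 17]),
    (81, [1, 8, 9, 10, 12, 13]),
    (68, [9, 13, 15]),
    (69, [8, 12, 15]),
    (82, [1, 8, 9, 10, 12, 13, 16, 17]),
    (65, [9, 13, 15]),
    (66, [8, 12, 15]),
    (57, [0, 2, 8, 9, 11, 14, 15]),
    (71, [11, 14, 15, 16, 17]),
    (54, [1, 8, 9, 10, 11, 12, 13, 14, 15, 16]),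
    (55, [1, 8, 9, 10, 11, 12, 13, 14, 15, 16, 17]),
    (56, [1, 8, 9, 10, 11, 12, 13, 14, 15, 17]),
    (58, [1, 8, 9, 10, 12, 13, 16, 17]),
    (59, [1, 8, 9, 10, 12, 13, 16]),
    (60, [1, 8, 9, 10, 12, 13]),
    (61, [1, 8, 9, 10, 12, 13, 17]),
    (62, [1, 8, 9, 10, 12, 13, 17]),
    (63, [1, 8, 9, 10, 12, 13, 16, 17]),
    (64, [1, 8, 9, 10, 12, 13, 16]),
    (67, [1, 8, 9, 10, 12, 13, 17]),
    (107, [5, 1, 3, 8, 9, 12, 13, 17]),
    (88, [1, 8, 9, 10, 11, 12, 13, 14, 15, 17]),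
    (109, [1, 8, 9, 10, 11, 12, 13, 14, 15, 16, 17]),
    (93, [6, 2, 8, 9, 10, 11, 12, 13, 14, 15]),
    (91, [4, 0, 8, 9, 10, 11, 12, 13, 14, 15, 16]),
    (84, [1, 8, 9, 10, 11, 12, 13, 14, 15, 17]),
    (110, [1, 8, 9, 10, 12, 13, 16, 17]),
    (102, [5, 3, 9, 13, 15, 16, 17]),
    (87, [0, 4, 1, 8, 9, 10, 13, 15, 16]),
    (104, [5, 3, 8, 12, 15, 16, 17]),
    (86, [2, 6, 1, 8, 9, 10, 12, 15, 16]),
    (111, [1, 8, 9, 10, 12, 13, 16, 17]),
    (98, [9, 13, 15, 16, 17]),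
    (99, [8, 12, 15, 17]),
    (112, [1, 8, 9, 10, 12, 13, 16, 17]),
    (95, [9, 13, 15, 16, 17]),
    (96, [8, 12, 15, 17]),
    (108, [9, 13, 15, 16]),
    (105, [9, 13, 15, 16]),
    (90, [5, 2, 3, 9, 14, 15, 16]),
    (106, [8, 12, 15, 16]),
    (92, [5, 0, 3, 8, 14, 15]),
    (101, [9, 13, 15, 16]),
    (103, [8, 12, 15, 16]),
    (83, [1, 5, 0, 2, 8, 9, 10, 11, 12, 13, 15, 17]),
    (100, [9, 13, 15, 16]),
    (85, [1, 8, 9, 10, 11, 12, 13, 14, 15, 16, 17]),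
    (89, [1, 8, 9, 10, 12, 13, 17]),
    (94, [1, 8, 9, 10, 12, 13, 17]),
    (97, [1, 8, 9, 10, 12, 13, 17]),
    (116, [1, 5, 0, 1, 2, 8, 12, 13, 14, 15, 17]),
    (121, [6, 5, 0, 1, 8, 9, 12, 13, 14, 15]),
    (120, [4, 5, 1, 2, 8, 12, 13, 14, 15, 16]),
    (113, [1, 5, 1, 8, 9, 11, 12, 13, 14, 15, 16, 17]),
    (119, [2, 6, 1, 2, 10, 11, 12, 13, 14, 15]),
    (129, [5, 3, 9, 13, 15, 17]),
    (117, [2, 6, 1, 2, 8, 10, 12, 13, 14, 15, 16]),
    (115, [1, 5, 0, 4, 1, 8, 9, 10, 12, 13, 16]),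
    (114, [1, 5, 2, 6, 1, 8, 9, 10, 12, 13]),
    (127, [9, 13, 15, 16, 17]),
    (125, [9, 13, 15, 17]),
    (126, [8, 12, 15, 16, 17]),
    (123, [9, 13, 15, 17]),
    (124, [8, 12, 15, 16, 17]),
    (122, [9, 13, 15, 16, 17]),
    (130, [9, 13, 15, 17]),
    (118, [5, 2, 3, 9, 14, 15]),
    (128, [9, 13, 15, 17]),
    (132, [2, 6, 5, 0, 1, 3, 8, 9, 12, 14, 16, 17]),
    (131, [1, 5, 2, 6, 1, 2, 8, 9, 10, 11, 12, 13, 15, 16]),
    (134, [8, 9, 12, 13, 15, 16]),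
    (133, [8, 9, 12, 13, 15])]

/-- A row of a coset table. -/
def coset4_12 : List (ℕ × List ℕ) :=
   [(0, [16]),
    (1, [16]),
    (2, [16]),
    (3, [16]),
    (4, [16]),
    (5, [16]),
    (6, [16]),
    (7, [16]),
    (8, [16]),
    (9, [16]),
    (10, [16]),
    (11, [16]),
    (12, [16]),
    (13, [16]),
    (14, [16]),
    (15, [16]),
    (16, [16]),
    (17, [16]),
    (18, [16]),
    (19, [16]),
    (20, [16]),
    (21, [16]),
    (22, [16]),
    (23, [16]),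
    (24, [16]),
    (25, [16]),
    (26, [16]),
    (27, [16]),
    (28, [16]),
    (29, [16]),
    (30, [16]),
    (31, [16]),
    (32, [16]),
    (33, [16]),
    (34, [16]),
    (35, [16]),
    (36, [16]),
    (37, [16]),
    (38, [16]),
    (39, [16]),
    (40, [16]),
    (41, [16]),
    (42, [16]),
    (43, [16]),
    (44, [16]),
    (45, [16]),
    (46, [16]),
    (47, [16]),
    (48, [16]),
    (49, [16]),
    (50, [16]),
    (51, [16]),
    (52, [16]),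
    (53, [16]),
    (54, [16]),
    (55, [16]),
    (56, [16]),
    (57, [16]),
    (58, [16]),
    (59, [16]),
    (60, [16]),
    (61, [16]),
    (62, [16]),
    (63, [16]),
    (64, [16]),
    (65, [16]),
    (66, [16]),
    (67, [16]),
    (68, [16]),
    (69, [16]),
    (70, [16]),
    (71, [16]),
    (72, [16]),
    (73, [16]),
    (74, [16]),
    (75, [16]),
    (76, [16]),
    (77, [16]),
    (78, [16]),
    (79, [16]),
    (80, [16]),
    (81, [16]),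
    (82, [16]),
    (83, [16]),
    (84, [16]),
    (85, [16]),
    (86, [16]),
    (87, [16]),
    (88, [16]),
    (89, [16]),
    (90, [16]),
    (91, [16]),
    (92, [16]),
    (93, [16]),
    (94, [16]),
    (95, [16]),
    (96, [16]),
    (97, [16]),
    (98, [16]),
    (99, [16]),
    (100, [16]),
    (101, [16]),
    (102, [16]),
    (103, [16]),
    (104, [16]),
    (105, [16]),
    (106, [16]),
    (107, [16]),
    (108, [16]),
    (109, [16]),
    (110, [16]),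
    (111, [16]),
    (112, [16]),
    (113, [16]),
    (114, [16]),
    (115, [16]),
    (116, [16]),
    (117, [16]),
    (118, [16]),
    (119, [16]),
    (120, [16]),
    (121, [16]),
    (122, [16]),
    (123, [16]),
    (124, [16]),
    (125, [16]),
    (126, [16]),
    (127, [16]),
    (128, [16]),
    (129, [16]),
    (130, [16]),
    (131, [16]),
    (132, [16]),
    (133, [16]),
    (134, [16])]

/-- A row of a coset table. -/
def coset4_13 : List (ℕ × List ℕ) :=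
   [(0, [17]),
    (1, [17]),
    (2, [17]),
    (3, [17]),
    (4, [17]),
    (5, [17]),
    (6, [17]),
    (7, [17]),
    (8, [17]),
    (9, [17]),
    (10, [17]),
    (11, [17]),
    (12, [17]),
    (13, [17]),
    (14, [17]),
    (15, [17]),
    (16, [17]),
    (17, [17]),
    (18, [17]),
    (19, [17]),
    (20, [17]),
    (21, [17]),
    (22, [17]),
    (23, [17]),
    (24, [17]),
    (25, [17]),
    (26, [17]),
    (27, [17]),
    (28, [17]),
    (29, [17]),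
    (30, [17]),
    (31, [17]),
    (32, [17]),
    (33, [17]),
    (34, [17]),
    (35, [17]),
    (36, [17]),
    (37, [17]),
    (38, [17]),
    (39, [17]),
    (40, [17]),
    (41, [17]),
    (42, [17]),
    (43, [17]),
    (44, [17]),
    (45, [17]),
    (46, [17]),
    (47, [17]),
    (48, [17]),
    (49, [17]),
    (50, [17]),
    (51, [17]),
    (52, [17]),
    (53, [17]),
    (54, [17]),
    (55, [17]),
    (56, [17]),
    (57, [17]),
    (58, [17]),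
    (59, [17]),
    (60, [17]),
    (61, [17]),
    (62, [17]),
    (63, [17]),
    (64, [17]),
    (65, [17]),
    (66, [17]),
    (67, [17]),
    (68, [17]),
    (69, [17]),
    (70, [17]),
    (71, [17]),
    (72, [17]),
    (73, [17]),
    (74, [17]),
    (75, [17]),
    (76, [17]),
    (77, [17]),
    (78, [17]),
    (79, [17]),
    (80, [17]),
    (81, [17]),
    (82, [17]),
    (83, [17]),
    (84, [17]),
    (85, [17]),
    (86, [17]),
    (87, [17]),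
    (88, [17]),
    (89, [17]),
    (90, [17]),
    (91, [17]),
    (92, [17]),
    (93, [17]),
    (94, [17]),
    (95, [17]),
    (96, [17]),
    (97, [17]),
    (98, [17]),
    (99, [17]),
    (100, [17]),
    (101, [17]),
    (102, [17]),
    (103, [17]),
    (104, [17]),
    (105, [17]),
    (106, [17]),
    (107, [17]),
    (108, [17]),
    (109, [17]),
    (110, [17]),
    (111, [17]),
    (112, [17]),
    (113, [17]),
    (114, [17]),
    (115, [17]),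
    (116, [17]),
    (117, [17]),
    (118, [17]),
    (119, [17]),
    (120, [17]),
    (121, [17]),
    (122, [17]),
    (123, [17]),
    (124, [17]),
    (125, [17]),
    (126, [17]),
    (127, [17]),
    (128, [17]),
    (129, [17]),
    (130, [17]),
    (131, [17]),
    (132, [17]),
    (133, [17]),
    (134, [17])]

/-- A row of a coset table. -/
def coset4_14 : List (ℕ × List ℕ) :=
   [(0, [4]),
    (1, [4, 16, 17]),
    (2, [4]),
    (6, []),
    (9, []),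
    (11, []),
    (3, []),
    (14, [16]),
    (16, []),
    (4, []),
    (19, [16]),
    (5, []),
    (22, [16]),
    (13, [0, 16, 17]),
    (7, [16]),
    (25, []),
    (8, []),
    (28, [16]),
    (18, [0]),
    (10, [16]),
    (31, []),
    (21, [8]),
    (12, [16]),
    (34, []),
    (24, [0, 17]),
    (15, []),
    (39, [6, 1, 17]),
    (27, [12, 16, 17]),
    (17, [16]),
    (44, []),
    (30, [0, 16]),
    (20, []),
    (49, [6, 10, 16, 17]),
    (33, [8, 16]),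
    (23, []),
    (55, []),
    (36, [0, 16, 17]),
    (58, [2, 6, 0, 2]),
    (54, [2, 6, 9, 16]),
    (26, [6, 1, 17]),
    (40, [6, 1, 17]),
    (62, [6, 1, 17]),
    (63, [6, 1, 16]),
    (43, [12, 17]),
    (29, []),
    (73, []),
    (46, [0]),
    (75, [2, 6, 0, 2, 16]),
    (72, [2, 6, 13, 16, 17]),
    (32, [6, 10, 16, 17]),
    (50, [6, 10, 16, 17]),
    (79, [6, 10, 16, 17]),
    (80, [6, 10]),
    (53, [8]),
    (38, [6, 1, 2, 9]),
    (35, []),
    (85, [0, 4, 0, 17]),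
    (86, [16, 17]),
    (37, [2, 6, 0, 2, 16]),
    (89, [2, 6, 0, 2, 16, 17]),
    (84, [2, 6, 9, 17]),
    (61, [6, 1, 17]),
    (41, [6, 1, 17]),
    (42, [6, 1, 16]),
    (64, [6, 1, 16, 17]),
    (65, [6, 1, 16]),
    (96, [6, 1, 16]),
    (97, [6, 1, 17]),
    (68, [6, 10, 16, 17]),
    (99, [6, 1, 16]),
    (93, [6, 0, 10, 14, 16, 17]),
    (71, [12, 16, 17]),
    (48, [6, 2, 10, 16, 17]),
    (45, []),
    (109, [0, 4, 0, 16]),
    (47, [2, 6, 0, 2]),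
    (110, [2, 6, 0, 2, 17]),
    (88, [2, 6, 13, 17]),
    (78, [6, 10, 16, 17]),
    (51, [6, 10, 16, 17]),
    (52, [6, 10]),
    (81, [6, 10, 17]),
    (112, [6, 10, 16, 17]),
    (114, []),
    (60, [6, 1, 2, 9, 16, 17]),
    (56, [0, 4, 0, 17]),
    (57, [16, 17]),
    (117, [0, 4, 0, 16]),
    (77, [6, 2, 10, 17]),
    (59, [2, 6, 0, 2, 17]),
    (118, [2, 6, 0, 2]),
    (119, [2, 6, 0, 2, 16, 17]),
    (116, [2, 6, 9, 16]),
    (70, [6, 0, 10, 14, 17]),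
    (94, [6, 1, 17]),
    (95, [6, 1, 16]),
    (66, [6, 1, 16]),
    (67, [6, 1, 17]),
    (98, [6, 10, 16, 17]),
    (69, [6, 1, 16]),
    (100, [6, 1]),
    (101, [6, 1, 17]),
    (129, [5, 2, 6, 1, 5, 0, 2, 11, 17]),
    (124, [6, 1, 17]),
    (113, [1, 5, 2, 6, 1, 5, 2, 9, 10, 13]),
    (105, [6, 10]),
    (126, [6, 1, 17]),
    (121, [6, 0, 10, 14]),
    (108, [6, 10, 17]),
    (74, [0, 4, 0, 16]),
    (76, [2, 6, 0, 2, 16, 17]),
    (111, [6, 10, 16, 17]),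
    (82, [6, 10, 16, 17]),
    (104, [5, 6, 5, 1, 3, 9, 10, 13, 16]),
    (83, []),
    (131, [0, 4, 1, 5, 0, 4, 0, 1, 8, 16, 17]),
    (92, [6, 1, 2, 9]),
    (87, [0, 4, 0, 16]),
    (90, [2, 6, 0, 2, 16]),
    (91, [2, 6, 0, 2, 17]),
    (132, [2, 6, 0, 2]),
    (107, [6, 0, 10, 14, 16]),
    (122, [6, 1, 16]),
    (123, [6, 1, 17]),
    (103, [6, 1, 17]),
    (125, [6, 10]),
    (106, [6, 1, 17]),
    (127, [6, 10, 16, 17]),
    (128, [6, 1, 16, 17]),
    (102, [5, 2, 6, 1, 5, 0, 2, 11, 16, 17]),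
    (130, [6, 10, 16]),
    (115, [0, 4, 1, 5, 0, 4, 0, 1, 8, 16, 17]),
    (120, [2, 6, 0, 2, 16]),
    (133, [6, 1, 17]),
    (134, [6, 10])]

/-- A row of a coset table. -/
def coset4_15 : List (ℕ × List ℕ) :=
   [(0, [5]),
    (3, []),
    (4, []),
    (1, []),
    (2, []),
    (5, [1]),
    (13, [0, 4, 0, 16, 17]),
    (15, [2, 6, 2, 16, 17]),
    (8, [10, 16, 17]),
    (18, [0, 4, 0]),
    (20, [2, 6, 2, 16]),
    (11, [4, 1, 16, 17]),
    (12, [6, 1, 17]),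
    (6, [0, 4, 0, 16, 17]),
    (26, []),
    (7, [2, 6, 2, 16, 17]),
    (16, [4, 10, 16, 17]),
    (17, [6, 10, 16, 17]),
    (9, [0, 4, 0]),
    (32, []),
    (10, [2, 6, 2, 16]),
    (21, [4, 1, 16, 17]),
    (35, []),
    (23, [6, 1, 17]),
    (37, []),
    (38, []),
    (14, []),
    (27, [4, 10, 16, 17]),
    (45, []),
    (29, [6, 10, 16, 17]),
    (47, []),
    (48, []),
    (19, []),
    (40, [0, 8, 17]),
    (41, [2, 9, 16, 17]),
    (22, []),
    (58, []),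
    (24, []),
    (25, []),
    (54, []),
    (33, [0, 8, 17]),
    (34, [2, 9, 16, 17]),
    (67, [5, 3, 16]),
    (50, [0, 12, 17]),
    (51, [2, 13, 16, 17]),
    (28, []),
    (75, []),
    (30, []),
    (31, []),
    (72, []),
    (43, [0, 12, 17]),
    (44, [2, 13, 16, 17]),
    (83, []),
    (64, [0, 8, 17]),
    (39, []),
    (55, [6, 1, 17]),
    (56, [4, 1, 16, 17]),
    (82, [1, 5, 10, 16]),
    (36, []),
    (90, [5, 3, 17]),
    (92, [5, 3, 16, 17]),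
    (61, [0, 8, 16, 17]),
    (62, [2, 9, 16, 17]),
    (63, [1, 5, 1, 16]),
    (53, [0, 8, 17]),
    (102, []),
    (104, []),
    (42, [5, 3, 16]),
    (105, [5, 3, 17]),
    (106, [5, 3, 16, 17]),
    (107, [5, 3, 16]),
    (81, [0, 12, 17]),
    (49, []),
    (73, [6, 10, 16, 17]),
    (74, [4, 10, 16, 17]),
    (46, []),
    (101, [5, 1, 3, 8, 12]),
    (103, [5, 1, 3, 9, 13]),
    (78, [0, 12, 16, 17]),
    (79, [2, 13, 16, 17]),
    (88, [5, 3]),
    (71, [0, 12, 17]),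
    (57, [5, 1, 3, 16]),
    (52, []),
    (84, [1, 5, 1, 16]),
    (85, [8, 16]),
    (96, [1, 5, 6, 2, 9, 16, 17]),
    (95, [1, 5, 4, 0, 8, 16, 17]),
    (80, [5, 3]),
    (118, [5, 3]),
    (59, [5, 3, 17]),
    (91, [5, 3, 17]),
    (60, [5, 3, 16, 17]),
    (93, [5, 3, 16, 17]),
    (94, [11, 16]),
    (87, [0, 4, 1, 5, 0, 1, 8, 16, 17]),
    (86, [2, 6, 1, 5, 1, 2, 17]),
    (97, [1, 5, 1, 16]),
    (98, [1, 5, 1, 17]),
    (99, [1, 5, 1, 16, 17]),
    (129, []),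
    (76, [1, 5, 0, 8, 10, 12]),
    (65, []),
    (77, [1, 5, 2, 9, 10, 13]),
    (66, []),
    (68, [5, 3, 17]),
    (69, [5, 3, 16, 17]),
    (70, [5, 3, 16]),
    (130, [5, 3, 17]),
    (109, [12, 17]),
    (128, [5, 1, 3, 8, 12, 17]),
    (111, [14, 16, 17]),
    (113, [1, 10, 16]),
    (112, [1, 10, 16]),
    (124, [1, 5, 6, 5, 1, 3, 9, 13, 17]),
    (123, [0, 4, 5, 4, 0, 3, 8, 12, 17]),
    (116, [1, 5, 1, 16]),
    (122, [1, 5, 2, 6, 2, 8, 9, 17]),
    (89, [5, 3]),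
    (119, [5, 3]),
    (120, [5, 3, 17]),
    (121, [5, 3, 16, 17]),
    (117, [2, 6, 1, 5, 1, 9, 11, 17]),
    (115, [0, 4, 1, 5, 0, 4, 0, 1, 12, 16]),
    (114, [1, 5, 2, 6, 1, 5, 1, 2, 13, 16]),
    (125, [1, 5, 1, 17]),
    (126, [1, 5, 1, 16, 17]),
    (127, [1, 5, 0, 1, 14, 15]),
    (110, [1, 5, 0, 8, 10, 12, 17]),
    (100, []),
    (108, [5, 3, 17]),
    (133, [1, 5, 2, 6, 1, 5, 1, 2, 9, 12]),
    (132, [5, 3]),
    (131, [1, 5, 2, 6, 1, 5, 1, 2, 9, 15, 17]),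
    (134, [1, 5, 1])]

/-- A row of a coset table. -/
def coset4_16 : List (ℕ × List ℕ) :=
   [(0, [6]),
    (1, [6, 17]),
    (2, [6]),
    (7, []),
    (10, []),
    (12, []),
    (14, []),
    (3, []),
    (17, []),
    (19, []),
    (4, []),
    (22, []),
    (5, []),
    (24, []),
    (6, []),
    (15, [2, 17]),
    (28, []),
    (8, []),
    (30, []),
    (9, []),
    (20, [2]),
    (33, []),
    (11, []),
    (23, [9]),
    (13, []),
    (25, [2, 16, 17]),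
    (39, [4, 1, 16, 17]),
    (43, []),
    (16, []),
    (29, [13, 17]),
    (18, []),
    (31, [2, 16]),
    (49, [4, 10, 16, 17]),
    (21, []),
    (34, [9, 16]),
    (56, []),
    (36, [2, 17]),
    (54, [0, 4, 8]),
    (58, [0, 4, 0, 2, 16]),
    (26, [4, 1, 16, 17]),
    (61, [4, 1, 16, 17]),
    (41, [4, 1, 17]),
    (63, [4, 1, 16]),
    (27, []),
    (44, [13, 16, 17]),
    (74, []),
    (46, [2]),
    (72, [0, 4, 12, 16, 17]),
    (75, [0, 4, 0, 2]),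
    (32, [4, 10, 16, 17]),
    (78, [4, 10, 16, 17]),
    (51, [4, 10, 17]),
    (80, [4, 10, 16]),
    (53, [9]),
    (37, [4, 0, 1]),
    (85, [0, 4, 0, 16, 17]),
    (35, []),
    (87, [17]),
    (38, [0, 4, 0, 2]),
    (84, [0, 4, 8, 17]),
    (89, [0, 4, 0, 2, 16, 17]),
    (40, [4, 1, 16, 17]),
    (62, [4, 1, 17]),
    (42, [4, 1, 16]),
    (64, [0, 4, 0, 9, 11, 17]),
    (95, [4, 1, 16]),
    (66, [4, 1]),
    (97, [4, 1, 16, 17]),
    (98, [4, 1, 16]),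
    (69, [4, 10, 17]),
    (91, [4, 2, 10, 14, 16, 17]),
    (71, [13, 17]),
    (47, [4, 0, 10, 16, 17]),
    (109, [0, 4, 0]),
    (45, []),
    (48, [0, 4, 0, 2, 16]),
    (88, [0, 4, 12, 16, 17]),
    (110, [0, 4, 0, 2, 17]),
    (50, [4, 10, 16, 17]),
    (79, [4, 10, 17]),
    (52, [4, 10, 16]),
    (81, [0, 4, 0, 13, 14, 16]),
    (112, [4, 10, 16, 17]),
    (115, []),
    (59, [4, 0, 1, 17]),
    (55, [0, 4, 0, 16, 17]),
    (117, [0, 4, 0, 16]),
    (57, [17]),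
    (76, [4, 0, 10, 16, 17]),
    (60, [0, 4, 0, 2, 17]),
    (116, [0, 4, 8]),
    (70, [4, 2, 10, 14, 17]),
    (118, [0, 4, 0, 2, 16]),
    (119, [0, 4, 0, 2, 16, 17]),
    (94, [4, 1, 17]),
    (65, [4, 1, 16]),
    (96, [4, 1]),
    (67, [4, 1, 16, 17]),
    (68, [4, 1, 16]),
    (99, [4, 10, 17]),
    (100, [0, 4, 0, 9, 11]),
    (123, [4, 1, 16, 17]),
    (113, [0, 4, 1, 5, 0, 4, 0, 10, 12]),
    (103, [4, 1, 17]),
    (129, [4, 5, 0, 4, 0, 2, 8, 11, 16, 17]),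
    (125, [4, 1, 16, 17]),
    (106, [4, 10]),
    (120, [4, 2, 10, 14, 16]),
    (108, [0, 4, 0, 13, 14, 16]),
    (73, [0, 4, 0]),
    (77, [0, 4, 0, 2, 16, 17]),
    (111, [4, 10, 17]),
    (82, [4, 10, 16, 17]),
    (102, [0, 4, 5, 0, 4, 0, 1, 3, 8, 10, 12]),
    (131, [0, 4, 1, 5, 0, 4, 0, 1, 8, 17]),
    (83, []),
    (90, [4, 0, 1]),
    (86, [0, 4, 0, 16]),
    (92, [0, 4, 0, 2]),
    (93, [0, 4, 0, 2, 17]),
    (107, [4, 2, 10, 14]),
    (132, [0, 4, 0, 2, 16]),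
    (122, [4, 1]),
    (101, [4, 1, 16, 17]),
    (124, [4, 1, 17]),
    (105, [4, 1, 16, 17]),
    (126, [4, 10]),
    (127, [4, 1, 16, 17]),
    (128, [0, 4, 0, 9, 11, 17]),
    (104, [0, 4, 1, 5, 4, 1, 8, 9, 17]),
    (130, [0, 4, 0, 13, 14, 16, 17]),
    (114, [0, 4, 1, 5, 0, 4, 0, 1, 8, 17]),
    (121, [0, 4, 0, 2]),
    (133, [4, 1, 17]),
    (134, [4, 10])]

/-- A row of a coset table. -/
def coset4_17 : List (ℕ × List ℕ) :=
   [(1, []),
    (0, []),
    (2, [3]),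
    (5, [1, 5, 1]),
    (4, [5, 3, 16, 17]),
    (3, [1, 5, 1]),
    (11, [1, 5, 1, 16, 17]),
    (12, [1, 5, 1, 17]),
    (8, [5, 3, 16, 17]),
    (9, [5, 3]),
    (10, [5, 3, 16]),
    (6, [1, 5, 1, 16, 17]),
    (7, [1, 5, 1, 17]),
    (21, [1, 5, 1]),
    (22, [1, 5, 1, 16]),
    (23, [1, 5, 1]),
    (16, [5, 3]),
    (17, [5, 3, 16]),
    (18, [5, 3, 16, 17]),
    (19, [5, 3, 17]),
    (20, [5, 3, 16, 17]),
    (13, [1, 5, 1]),
    (14, [1, 5, 1, 16]),
    (15, [1, 5, 1]),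
    (33, [1, 5, 1, 17]),
    (34, [1, 5, 1, 16, 17]),
    (42, []),
    (27, [5, 3, 16, 17]),
    (28, [5, 3, 17]),
    (29, [5, 3, 16, 17]),
    (30, [5, 3, 16]),
    (31, [5, 3]),
    (52, []),
    (24, [1, 5, 1, 17]),
    (25, [1, 5, 1, 16, 17]),
    (57, []),
    (53, [1, 5, 1]),
    (59, []),
    (60, []),
    (63, []),
    (65, []),
    (66, []),
    (26, []),
    (43, [5, 3, 16]),
    (44, [5, 3]),
    (70, [0, 1, 2, 9, 10, 12, 13]),
    (46, [5, 3, 16, 17]),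
    (76, []),
    (77, []),
    (80, []),
    (68, [1, 8, 10, 12, 16, 17]),
    (69, [1, 9, 10, 13, 16, 17]),
    (32, []),
    (36, [1, 5, 1]),
    (84, []),
    (86, []),
    (87, []),
    (35, []),
    (89, []),
    (37, []),
    (38, []),
    (95, []),
    (96, []),
    (39, []),
    (100, []),
    (40, []),
    (41, []),
    (82, [16]),
    (50, [1, 8, 10, 12, 16, 17]),
    (51, [1, 9, 10, 13, 16, 17]),
    (45, [0, 1, 2, 8, 10, 11, 14, 15, 17]),
    (71, [5, 3, 16, 17]),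
    (88, [17]),
    (93, [6, 1, 2, 9, 17]),
    (91, [4, 0, 1, 17]),
    (110, []),
    (47, []),
    (48, []),
    (98, [1, 8, 10, 12]),
    (99, [1, 9, 10, 13, 16]),
    (49, []),
    (108, [1, 8, 10, 12, 16]),
    (67, [16]),
    (83, [5, 3, 17]),
    (54, []),
    (117, []),
    (55, []),
    (56, []),
    (72, [17]),
    (58, []),
    (102, [5, 1, 3, 8, 12, 17]),
    (74, [0, 4, 8, 17]),
    (104, [5, 1, 3, 9, 13, 16, 17]),
    (73, [2, 6, 9, 16, 17]),
    (122, []),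
    (61, []),
    (62, []),
    (112, [1, 10, 16, 17]),
    (78, [1, 8, 10, 12]),
    (79, [1, 9, 10, 13, 16]),
    (64, []),
    (101, [1, 8, 10, 12, 16]),
    (90, [1, 5, 0, 8, 10, 12, 17]),
    (103, [1, 9, 10, 13]),
    (92, [1, 5, 2, 9, 10, 13, 16, 17]),
    (105, [1, 8, 10, 12, 16]),
    (106, [1, 9, 10, 13]),
    (107, [1, 8, 9, 10, 11, 12, 13, 14, 15, 16]),
    (81, [1, 8, 10, 12, 16]),
    (119, [2, 6, 2, 8, 17]),
    (75, []),
    (127, [1, 8, 10, 12]),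
    (97, [1, 10, 16, 17]),
    (116, [1, 5, 1]),
    (114, [5, 3, 16]),
    (115, [5, 3]),
    (113, [1, 5, 1]),
    (85, []),
    (129, [5, 1, 3, 8, 12, 17]),
    (109, [2, 6, 2, 11, 16, 17]),
    (120, [8, 12]),
    (121, [9, 13]),
    (94, []),
    (123, [8, 12, 16, 17]),
    (124, [9, 13, 17]),
    (125, [8, 12, 16, 17]),
    (126, [9, 13, 17]),
    (111, [1, 8, 10, 12]),
    (128, [1, 8, 10, 12, 16, 17]),
    (118, [1, 5, 0, 8, 10, 12, 17]),
    (130, [1, 8, 10, 12, 16, 17]),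
    (131, [0, 12]),
    (132, [11, 14, 17]),
    (133, [15]),
    (134, [15, 16])]

/-- A coset table. -/
def coset4 : List (List (ℕ × List ℕ)) := [coset4_0, coset4_1, coset4_2, coset4_3, coset4_4, coset4_5, coset4_6, coset4_7, coset4_8, coset4_9, coset4_10, coset4_11, coset4_12, coset4_13, coset4_14, coset4_15, coset4_16, coset4_17]

/-- The base. -/
def baseCols : List ℕ := [0, 4, 1, 5, 2, 6]

/-- Transversal. -/
def orbit0 : List (ℕ × ℕ) :=
  [(1, 22), (3, 187), (33, 188), (5, 189), (65, 190), (9, 191), (129, 192), (2, 193), (51, 194), (7, 195), (67, 196), (11, 197), (131, 198), (32, 199), (37, 200), (97, 201), (41, 202), (161, 203), (4, 204), (85, 205), (13, 206), (133, 207), (64, 208), (73, 209), (193, 210), (8, 211), (153, 212), (128, 213), (18, 214), (6, 215), (66, 216), (10, 217), (130, 218), (48, 219), (55, 220), (115, 221), (59, 222), (179, 223), (87, 224), (15, 225), (135, 226), (103, 227), (75, 228),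 (195, 229), (155, 230), (171, 231), (36, 232), (96, 233), (40, 234), (160, 235), (117, 236), (45, 237), (165, 238), (105, 239), (225, 240), (185, 241), (20, 242), (12, 243), (132, 244), (80, 245), (93, 246), (213, 247), (157, 248), (205, 249), (72, 250), (192, 251), (217, 252), (24, 253), (144, 254), (16, 255), (22, 256), (82, 257), (26, 258), (146, 259), (102, 260), (14, 261), (134, 262), (74, 263), (194, 264), (170, 265), (52, 266), (112, 267), (56, 268), (176, 269), (118, 270), (63, 271), (183, 272), (123, 273), (243, 274), (186, 275), (95, 276), (215, 277), (159, 278), (111, 279), (175, 280), (207, 281), (231, 282), (219, 283), (235, 284), (44, 285), (164, 286), (104, 287), (224, 288), (125, 289), (245, 290), (189, 291), (237, 292), (249, 293), (28, 294), (148, 295), (204, 296), (88, 297), (208, 298), (220, 299), (30, 300), (150, 301), (90, 302), (210, 303), (110, 304), (230, 305), (174, 306), (206, 307), (234,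 308), (60, 309), (180, 310), (120, 311), (240, 312), (126, 313), (246, 314), (190, 315), (255, 316), (250, 317), (222, 318), (236, 319), (252, 320)]

/-- Transversal. -/
def orbit1 : List (ℕ × ℕ) :=
  [(16, 22), (18, 321), (48, 322), (20, 323), (80, 324), (24, 325), (144, 326), (51, 327), (22, 328), (82, 329), (26, 330), (146, 331), (52, 332), (112, 333), (56, 334), (176, 335), (85, 336), (28, 337), (148, 338), (88, 339), (208, 340), (153, 341), (55, 342), (115, 343), (59, 344), (179, 345), (87, 346), (30, 347), (150, 348), (118, 349), (90, 350), (210, 351), (155, 352), (186, 353), (117, 354), (60, 355), (180, 356), (120, 357), (240, 358), (185, 359), (93, 360), (213, 361), (157, 362), (220, 363), (217, 364), (63, 365), (183, 366), (123, 367), (243, 368), (95, 369), (215, 370), (159, 371), (126, 372), (190, 373), (222, 374), (246, 375), (219, 376), (250, 377), (125, 378), (245, 379), (189, 380), (252, 381), (249,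 382), (255, 383)]

/-- Transversal. -/
def orbit2 : List (ℕ × ℕ) :=
  [(2, 22), (6, 384), (66, 385), (10, 386), (130, 387), (4, 388), (102, 389), (14, 390), (134, 391), (64, 392), (74, 393), (194, 394), (8, 395), (170, 396), (128, 397), (36, 398), (12, 399), (132, 400), (96, 401), (110, 402), (230, 403), (174, 404), (206, 405), (72, 406), (192, 407), (234, 408), (40, 409), (160, 410), (32, 411), (44, 412), (164, 413), (204, 414), (104, 415), (224, 416), (236, 417)]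

/-- Transversal. -/
def orbit3 : List (ℕ × ℕ) :=
  [(32, 22), (36, 418), (96, 419), (40, 420), (160, 421), (102, 422), (44, 423), (164, 424), (104, 425), (224, 426), (170, 427), (110, 428), (230, 429), (174, 430), (236, 431), (234, 432)]

/-- Transversal. -/
def orbit4 : List (ℕ × ℕ) :=
  [(4, 22), (12, 433), (132, 434), (8, 435), (204, 436), (128, 437), (72, 438), (192, 439), (64, 440)]

/-- Transversal. -/
def orbit5 : List (ℕ × ℕ) :=
  [(64, 22), (72, 441), (192, 442), (204, 443)]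

/-- Each generator is a double commutator. -/
def commData : List (ℕ × ℕ × ℕ) := [(0, 1, 5), (1, 0, 4), (2, 1, 5), (3, 1, 5), (4, 5, 1), (5, 4, 0), (6, 5, 1), (7, 5, 1)]

end CfsgLib.OPlusEightTwo
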